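import Groth.Agent.FieldDualLib.Basic
import Groth.Agent.CurveDualModLib.Bidual
import Groth.Agent.CurveDualModLib.Dual
import Groth.Agent.CurvLib.Divisor

/-!
# Homomorphisms into the dualizing module as functionals on `H¹`
-/

set_option autoImplicit false
set_option linter.style.haveILetI false
set_option linter.unusedSectionVars false
set_option maxHeartbeats 1000000
set_option synthInstance.maxHeartbeats 200000
set_option backward.isDefEq.respectTransparency false
set_option backward.isDefEq.respectTransparency.types false

universe u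

open CategoryTheory CategoryTheory.Limits AlgebraicGeometry DerivedCategory
open Groth.Agent Groth.Agent.Dual3Lib

attribute [local instance] HasDerivedCategory.standard

noncomputable section

namespace NefH1Lib

namespace Subcurve

variable {k : Type u} [Field k] {X : Scheme.{u}} [X.Over (Spec (CommRingCat.of k))]

/-- the module functor to the derived category, linearly on homomorphisms -/
def singleLin (M N : X.Modules) : (M ⟶ N) ≃ₗ[k] (DCoh.inD X M ⟶ DCoh.inD X N) :=
  LinearEquiv.ofBijective ((singleFunctor X.Modules 0).mapLinearMap k)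
    ⟨fun _ _ h => (singleFunctor X.Modules 0).map_injective h, fun y => (singleFunctor X.Modules 0).map_surjective y⟩

/-- global sections as homomorphisms from the structure sheaf, linearly -/
def homUnit [HasExt.{u} X.Modules] (M : X.Modules) :
    (Coh.structureModule X ⟶ M) ≃ₗ[k] Coh.HH X M 0 :=
  (singleLin (k := k) (Coh.structureModule X) M).trans (CurveDualModLib.homZero (k := k) M)

/-- `Hom(G, ω) ≃ H¹(G)^∨` -/
theorem exists_dual (k : Type u) [Field k] (X : Scheme.{u}) [X.Over (Spec (CommRingCat.of k))]
    [IsProper (X ↘ Spec (CommRingCat.of k))] (hCM : ∀ x : X, LocCoh.IsCohenMacaulayLocalRing (X.presheaf.stalk x))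
    (heq : ∀ Z ∈ irreducibleComponents (X : Type u), topologicalKrullDim Z = ((1 : ℕ) : WithBot ℕ∞))
    (hdim : topologicalKrullDim X = ((1 : ℕ) : WithBot ℕ∞)) :
    ∃ ω : X.Modules, Coh.IsCoh ω ∧
      ∀ G : X.Modules, Coh.IsQCoh G → Nonempty ((G ⟶ ω) ≃ₗ[k] Module.Dual k (Coh.HH X G 1)) := by
  haveI : EnoughInjectives X.Modules := IsGrothendieckAbelian.enoughInjectives.{u}
  haveI : HasExt.{u} X.Modules := hasExt_of_enoughInjectives.{u} X.Modules
  obtain ⟨ω, t, hω, ht⟩ := FieldDualLib.exists_duality' (k := k) hCM 1 heq hdim
  refine ⟨ω, hω, fun G hG => ?_⟩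
  exact ⟨(singleLin (k := k) G ω).trans
    ((Linear.homCongr k (Iso.refl (DCoh.inD X G)) (CurveDualModLib.zH ω).symm).trans
      ((LinearEquiv.ofBijective (FieldDualLib.pairing t G 0 1 (by norm_num)) (ht G hG 0 1 (by norm_num))).trans
        (FieldDualLib.homEquivHH (k := k) G 1).symm.dualMap))⟩

end Subcurve

end NefH1Lib

end
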