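import Groth.Agent.NefH1Lib.Subcurve.Action
import Groth.Agent.NefH1Lib.Subcurve.Dual
import Groth.Agent.CurvLib.RRBasic

/-!
# A subcurve of small degree from nonvanishing first cohomology
-/

set_option autoImplicit false
set_option linter.style.haveILetI false
set_option linter.unusedSectionVars false
set_option maxHeartbeats 1000000
set_option backward.isDefEq.respectTransparency false
set_option backward.isDefEq.respectTransparency.types false

universe u

open CategoryTheory CategoryTheory.Limits AlgebraicGeometry TopologicalSpace Opposite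
open DevissLib (St gm)
open AmpleLib (res GenAt GenOn)

noncomputable section

namespace NefH1Lib

namespace Subcurve

variable (k : Type u) [Field k] {X : Scheme.{u}} [X.Over (Spec (CommRingCat.of k))]
  [IsProper (X ↘ Spec (CommRingCat.of k))] [IsReduced X]

theorem dim_mono {s t : Set X} (h : s ⊆ t) : topologicalKrullDim s ≤ topologicalKrullDim t :=
  (Topology.IsEmbedding.inclusion h).isInducing.topologicalKrullDim_le

include k in
/-- A connected reduced curve has all components of dimension one. -/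
theorem equidim [ConnectedSpace X] (hdim : topologicalKrullDim X = 1) :
    ∀ Z ∈ irreducibleComponents (X : Type u), topologicalKrullDim Z = ((1 : ℕ) : WithBot ℕ∞) := by
  haveI := CurvLib.isNoetherian k (X := X)
  intro Z hZ
  refine le_antisymm ((topologicalKrullDim_subspace_le X _).trans (hdim.le.trans (by simp))) ?_
  have hZc := isClosed_of_mem_irreducibleComponents _ hZ
  obtain ⟨η, hη⟩ := QuasiSober.sober hZ.1 hZc
  by_cases hp : ∃ z ∈ Z, z ≠ η
  · obtain ⟨z, hz, hne⟩ := hp
    let a : IrreducibleCloseds Z := ⟨closure {⟨z, hz⟩}, isIrreducible_singleton.closure, isClosed_closure⟩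
    let b : IrreducibleCloseds Z := ⟨Set.univ, by
      haveI : IrreducibleSpace Z := Subtype.irreducibleSpace hZ.1
      exact IrreducibleSpace.isIrreducible_univ Z, isClosed_univ⟩
    have hab : a < b := by
      refine lt_of_le_of_ne (fun y _ => trivial) fun h => ?_
      have hmem : (⟨η, hη.mem⟩ : Z) ∈ closure ({⟨z, hz⟩} : Set Z) := by
        rw [show closure ({⟨z, hz⟩} : Set Z) = Set.univ from congrArg (fun c : IrreducibleCloseds Z => (c : Set Z)) h]
        trivial
      have hsp : (⟨z, hz⟩ : Z) ⤳ ⟨η, hη.mem⟩ := specializes_iff_mem_closure.2 hmem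
      exact hne ((hsp.map continuous_subtype_val).antisymm (hη.specializes hz)).eq
    exact_mod_cast Order.LTSeries.length_le_krullDim ((RelSeries.singleton _ b).cons a hab)
  · simp only [not_exists, not_and, not_not] at hp
    have hZs : Z = {η} := Set.eq_singleton_iff_unique_mem.2 ⟨hη.mem, hp⟩
    exfalso
    obtain ⟨o, ho, hne, hsub⟩ := NoetherianSpace.exists_isOpen_nonempty_subset_irreducibleComponent Z hZ
    have hoeq : o = {η} := by
      rw [hZs] at hsub
      rcases Set.subset_singleton_iff_eq.1 hsub with h | h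
      · exact absurd h hne.ne_empty
      · exact h
    have hcl : IsClopen ({η} : Set X) := ⟨hZs ▸ hZc, hoeq ▸ ho⟩
    have huniv : ({η} : Set X) = Set.univ := (isClopen_iff.mp hcl).resolve_left (Set.singleton_ne_empty η)
    haveI : Subsingleton X := ⟨fun a b => (huniv.ge (Set.mem_univ a)).trans (huniv.ge (Set.mem_univ b)).symm⟩
    have := topologicalKrullDim_zero_of_discreteTopology X
    rw [hdim] at this
    exact absurd this (by simp)

theorem nonempty_coker_iso (Z J : X.IdealSheafData) :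
    Nonempty (cokernel (ClSub.idealModι Z ≫ ClSub.toSubscheme J) ≅ ClSub.quotMod (Z ⊔ J)) := by
  have hle1 : J ≤ Z ⊔ J := le_sup_right
  obtain ⟨r, hr, hre⟩ := exists_quot_map hle1
  have hw : (ClSub.idealModι Z ≫ ClSub.toSubscheme J) ≫ r = 0 := by
    rw [Category.assoc, hr]
    exact idealModι_comp_toSubscheme le_sup_left
  let π := cokernel.desc ((ClSub.idealModι Z ≫ ClSub.toSubscheme J)) r hw
  haveI : Epi π := by
    haveI := hre
    haveI : Epi (cokernel.π ((ClSub.idealModι Z ≫ ClSub.toSubscheme J)) ≫ π) := by rw [cokernel.π_desc]; infer_instance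
    exact epi_of_epi (cokernel.π ((ClSub.idealModι Z ≫ ClSub.toSubscheme J))) π
  haveI : Mono π := by
    refine Preadditive.mono_of_cancel_zero π fun {G} g hg => eq_zero_of_stalks' g fun x => LinearMap.ext fun a => ?_
    rw [LinearMap.zero_apply]
    obtain ⟨b, hb⟩ := (ModuleCat.epi_iff_surjective ((St x).map (ClSub.toSubscheme J ≫ cokernel.π ((ClSub.idealModι Z ≫ ClSub.toSubscheme J))))).mp
      inferInstance (((St x).map g).hom a)
    obtain ⟨W, hxW, s, rfl⟩ := DevissLib.exists_gm_eq (Coh.structureModule X) x b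
    rw [← hb]
    have h2 : gm (ClSub.quotMod (Z ⊔ J)) x hxW ((ClSub.toSubscheme (Z ⊔ J)).app W s) = 0 := by
      have h3 := congrArg (fun f : G ⟶ ClSub.quotMod (Z ⊔ J) => ((St x).map f).hom a) hg
      simp only [Functor.map_comp, ModuleCat.hom_comp, LinearMap.comp_apply] at h3
      rw [← hb, DevissLib.gm_app, DevissLib.gm_app] at h3
      refine Eq.trans ?_ (h3.trans (by simp))
      refine congrArg _ ?_
      show _ = (ClSub.toSubscheme J ≫ cokernel.π ((ClSub.idealModι Z ≫ ClSub.toSubscheme J)) ≫ π).app W s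
      rw [cokernel.π_desc, hr]
    obtain ⟨W', hxW', j, j', hW'⟩ := TopCat.Presheaf.germ_eq (ClSub.quotMod (Z ⊔ J)).presheaf x (U := W) (V := W)
      hxW hxW _ 0 (h2.trans (map_zero _).symm)
    rw [map_zero] at hW'
    obtain ⟨U, hU, hxU, hUW⟩ := exists_isAffineOpen_mem_and_subset (x := x) (U := W') hxW'
    have hUW' : U ≤ W := fun a ha => j.le (hUW ha)
    rw [← DevissLib.gm_map (Coh.structureModule X) hUW' x hxU s, DevissLib.gm_app]
    have h5 : (ClSub.toSubscheme (Z ⊔ J)).app U (res (Coh.structureModule X) hUW' s) = 0 := by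
      refine (QCohLib.app_map (ClSub.toSubscheme (Z ⊔ J)) (homOfLE hUW') s).trans ?_
      refine (AmpleLib.res_res (ClSub.quotMod (Z ⊔ J)) j.le (show U ≤ W' from hUW) _).symm.trans ?_
      exact (congrArg (res (ClSub.quotMod (Z ⊔ J)) (show U ≤ W' from hUW)) hW').trans (map_zero _)
    have h6 := (IntMultLib.toSubscheme_app_eq_zero_iff (Z ⊔ J) ⟨U, hU⟩ _).mp h5
    rw [Scheme.IdealSheafData.ideal_sup, Pi.sup_apply] at h6
    obtain ⟨u, hu, v, hv, huv⟩ := Submodule.mem_sup.mp h6
    obtain ⟨σ, hσ⟩ := IntMultLib.exists_section Z ⟨U, hU⟩ hu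
    have h7 : (ClSub.toSubscheme J ≫ cokernel.π ((ClSub.idealModι Z ≫ ClSub.toSubscheme J))).app U (res (Coh.structureModule X) hUW' s) = 0 := by
      rw [show res (Coh.structureModule X) hUW' s = u + v from huv.symm]
      show (cokernel.π ((ClSub.idealModι Z ≫ ClSub.toSubscheme J))).app U ((ClSub.toSubscheme J).app U (u + v)) = 0
      rw [map_add, (IntMultLib.toSubscheme_app_eq_zero_iff J ⟨U, hU⟩ v).mpr hv, add_zero, ← hσ]
      show ((ClSub.idealModι Z ≫ ClSub.toSubscheme J) ≫ cokernel.π (ClSub.idealModι Z ≫ ClSub.toSubscheme J)).app U σ = 0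
      rw [cokernel.condition]
      rfl
    exact (congrArg (gm (cokernel ((ClSub.idealModι Z ≫ ClSub.toSubscheme J))) x hxU) h7).trans (map_zero _)
  haveI : IsIso π := isIso_of_mono_of_epi π
  exact ⟨asIso π⟩

theorem exists_subcurve [ConnectedSpace X] (hdim : topologicalKrullDim X = 1) {L : X.Modules}
    (hL : PicF.IsInvertible L) (Z : X.IdealSheafData) (hZ : topologicalKrullDim (Z.support : Set X) ≤ 0)
    (h1 : Nontrivial (Coh.HH X (CohB1.tensorMod (ClSub.idealMod Z) L) 1)) :
    ∃ J : X.IdealSheafData, IsReduced J.subscheme ∧ ConnectedSpace J.subscheme ∧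
      topologicalKrullDim J.subscheme = 1 ∧
      @Curv2.deg k _ J.subscheme ⟨J.subschemeι ≫ (X ↘ (Spec (CommRingCat.of k)))⟩
          ((Scheme.Modules.pullback J.subschemeι).obj L) 1 ≤
        -2 * @Curv2.euler k _ J.subscheme ⟨J.subschemeι ≫ (X ↘ (Spec (CommRingCat.of k)))⟩
            (Coh.structureModule J.subscheme) +
          Module.finrank k (Coh.HH X (ClSub.quotMod (Z ⊔ J)) 0) := by
  classical
  haveI := CurvLib.isNoetherian k (X := X)
  haveI : CompactSpace X := QuasiCompact.compactSpace_of_compactSpace (X ↘ Spec (CommRingCat.of k))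
  haveI : QuasiSeparatedSpace X := quasiSeparatedSpace_of_quasiSeparated (X ↘ Spec (CommRingCat.of k))
  haveI : EnoughInjectives X.Modules := IsGrothendieckAbelian.enoughInjectives.{u}
  haveI : HasExt.{u} X.Modules := hasExt_of_enoughInjectives.{u} X.Modules
  have hd1 : topologicalKrullDim X = ((1 : ℕ) : WithBot ℕ∞) := by simpa using hdim
  have heq := equidim k (X := X) hdim
  obtain ⟨ω, hω, hdual⟩ := exists_dual k X (CurveDualModLib.isCM_of_reduced (X := X) hd1.le) heq hd1
  have hηZ : ∀ η : X, IsMaxPt η → η ∉ (Z.support : Set X) := fun η hη hmem => by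
    have h := dim_mono ((closure_minimal (Set.singleton_subset_iff.mpr hmem) Z.support.isClosed))
    rw [heq _ (closure_mem_components hη)] at h
    have h' := h.trans hZ
    simp at h'
    exact absurd h' (not_le.mpr zero_lt_one)
  have hvan : ∀ G : X.Modules, ∀ n, 2 ≤ n → Subsingleton (Coh.HH X G n) := fun G n hn =>
    CurvLib.subsingleton_HH_of_dim_le G hd1.le n (by omega)
  -- homomorphisms from a generically zero module vanish
  have hthin : ∀ {A : X.Modules}, Coh.IsCoh A → ∀ φ : A ⟶ ω,
      (∀ η : X, IsMaxPt η → ((St η).map φ).hom = 0) → φ = 0 := by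
    intro A hA φ hφ
    let G := Abelian.image φ
    have hG : Coh.IsCoh G := DevissLib.isCoh_image φ hA hω
    have hd0 : topologicalKrullDim (CohB1.support G) ≤ 0 := by
      refine dim_support_le_zero hG.2 hdim.le fun η hη hs => ?_
      obtain ⟨a, ha⟩ := (DevissLib.mem_support_iff_nonzero G η).mp hs
      obtain ⟨b, rfl⟩ := (ModuleCat.epi_iff_surjective ((St η).map (Abelian.factorThruImage φ))).mp inferInstance a
      refine ha ((ModuleCat.mono_iff_injective ((St η).map (Abelian.image.ι φ))).mp inferInstance ?_)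
      rw [map_zero, ← LinearMap.comp_apply, ← ModuleCat.hom_comp, ← Functor.map_comp, Abelian.image.fac, hφ η hη]
      rfl
    haveI : Subsingleton (Coh.HH X G 1) :=
      CurvLib.subsingleton_HH_of_support_dim G hG.2 (d := 0) (by exact_mod_cast hd0) 1 (by omega)
    obtain ⟨E⟩ := hdual G hG.1
    haveI : Subsingleton (G ⟶ ω) := E.toEquiv.subsingleton
    rw [← Abelian.image.fac φ, Subsingleton.elim (Abelian.image.ι φ) 0, comp_zero]
  have hLc := CurvLib.isCoh_of_isInvertible hL
  have hIc : Coh.IsCoh (ClSub.idealMod Z) :=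
    QCohLib.isCoh_kernel _ (CurvLib.isCoh_of_isInvertible CurvLib.isInvertible_structureModule)
      (CurvLib.isCoh_quotMod Z).1
  have hM0 : Coh.IsCoh (CohB1.tensorMod L (ClSub.idealMod Z)) := HilbPolyLib.isCoh_tensor hL hIc
  have hψc : ∀ T : Set X, Coh.IsCoh (tN Z T L) := fun T =>
    HilbPolyLib.isCoh_tensor hL (DevissLib.isCoh_image _ hIc (CurvLib.isCoh_quotMod _))
  -- a nonzero map to the dualizing module
  obtain ⟨φ₀, hφ₀⟩ : ∃ φ₀ : CohB1.tensorMod L (ClSub.idealMod Z) ⟶ ω, φ₀ ≠ 0 := by
    by_contra hno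
    push Not at hno
    obtain ⟨E⟩ := hdual _ hM0.1
    haveI : Subsingleton (CohB1.tensorMod L (ClSub.idealMod Z) ⟶ ω) := subsingleton_of_forall_eq 0 hno
    haveI : Subsingleton (Module.Dual k (Coh.HH X (CohB1.tensorMod L (ClSub.idealMod Z)) 1)) :=
      E.symm.toEquiv.subsingleton
    haveI := CurvLib.finite_HH (k := k) hM0 1
    haveI hM1 : Subsingleton (Coh.HH X (CohB1.tensorMod L (ClSub.idealMod Z)) 1) :=
      (Module.finrank_zero_iff (R := k)).mp (Subspace.dual_finrank_eq.symm.trans Module.finrank_zero_of_subsingleton)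
    exact not_subsingleton (Coh.HH X (CohB1.tensorMod (ClSub.idealMod Z) L) 1)
      (@Function.Injective.subsingleton _ _ _ (CurvLib.hIso (k := k) (KFlatLib.tensSwap L (ClSub.idealMod Z)) 1).injective hM1)
  -- the sets of maximal points carrying one
  let Good : Set X → Prop := fun T => (∀ η ∈ T, IsMaxPt η) ∧ ∃ φ : tN Z T L ⟶ ω, φ ≠ 0
  have hall : Good {η | IsMaxPt η} := by
    refine ⟨fun η hη => hη, ?_⟩
    haveI := epi_tP hL Z {η : X | IsMaxPt η}
    have hk : kernel.ι (tP Z {η : X | IsMaxPt η} L) ≫ φ₀ = 0 := by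
      refine hthin (QCohLib.isCoh_kernel _ hM0 (hψc _).1) _ fun η hη => LinearMap.ext fun a => ?_
      obtain ⟨v, hv⟩ := exists_gen_src hL Z (hηZ η hη)
      have hne : ((St η).map (tP Z {η : X | IsMaxPt η} L)).hom ≠ 0 := fun h0 => by
        haveI := nontrivial_tN hL Z {η : X | IsMaxPt η} (hηZ η hη) (show η ∈ {η : X | IsMaxPt η} from hη)
        obtain ⟨b, hb⟩ := exists_ne (0 : (St η).obj (tN Z {η : X | IsMaxPt η} L))
        obtain ⟨c, rfl⟩ := (ModuleCat.epi_iff_surjective ((St η).map (tP Z {η : X | IsMaxPt η} L))).mp inferInstance b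
        exact hb (LinearMap.congr_fun h0 c)
      have hinj := injective_of_cyclic (isField_stalk hη) v hv _ hne
      have ha : ((St η).map (kernel.ι (tP Z {η : X | IsMaxPt η} L))).hom a = 0 := hinj (by
        rw [map_zero, ← LinearMap.comp_apply, ← ModuleCat.hom_comp, ← Functor.map_comp, kernel.condition,
          Functor.map_zero]
        rfl)
      rw [Functor.map_comp, ModuleCat.hom_comp, LinearMap.comp_apply, ha, map_zero]
      rfl
    refine ⟨Abelian.epiDesc (tP Z {η : X | IsMaxPt η} L) φ₀ hk, fun h0 => hφ₀ ?_⟩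
    rw [← Abelian.comp_epiDesc (tP Z {η : X | IsMaxPt η} L) φ₀ hk, h0, comp_zero]
  have hfin : ∀ {T : Set X}, (∀ η ∈ T, IsMaxPt η) → T.Finite := fun h => finite_maxPts.subset h
  have hex : ∃ n, ∃ T : Set X, Good T ∧ T.ncard = n := ⟨_, _, hall, rfl⟩
  obtain ⟨T, ⟨hTm, φ, hφ⟩, hTn⟩ := Nat.find_spec hex
  have hTf := hfin hTm
  have hmin : ∀ T' : Set X, T' ⊂ T → ¬ Good T' := fun T' hsub hg => by
    have h2 := Nat.find_min' hex ⟨T', hg, rfl⟩
    have h3 := Set.ncard_lt_ncard hsub hTf
    omega
  -- every nonzero map is nonzero at every point of `T`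
  have key : ∀ φ : tN Z T L ⟶ ω, φ ≠ 0 → ∀ η ∈ T, ((St η).map φ).hom ≠ 0 := by
    intro φ hφ η hηT h0
    let T' := T \ {η}
    refine hmin T' (Set.diff_singleton_ssubset.mpr hηT) ⟨fun a ha => hTm a ha.1, ?_⟩
    have hle : sub T ≤ sub T' := (Scheme.IdealSheafData.le_support_iff_le_vanishingIdeal).mp (by
      intro a ha
      show a ∈ ((sub T).support : Set X)
      rw [support_sub]
      exact closure_mono Set.diff_subset ha)
    obtain ⟨r, hr, -⟩ := exists_quot_map hle
    haveI := epi_tP hL Z T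
    haveI := epi_tP hL Z T'
    haveI := mono_tI hL Z T'
    have hf : ∀ S : Set X, tP Z S L ≫ tI Z S L = (CurvLib.tensorLeft' L).map (psi0 Z S) := fun S => by
      show (CurvLib.tensorLeft' L).map _ ≫ (CurvLib.tensorLeft' L).map _ = _
      rw [← Functor.map_comp, Abelian.image.fac]
    have hk : kernel.ι (tP Z T L) ≫ tP Z T' L = 0 := by
      rw [← cancel_mono (tI Z T' L), Category.assoc, zero_comp, hf,
        show psi0 Z T' = psi0 Z T ≫ r by rw [psi0, psi0, Category.assoc, hr], Functor.map_comp, ← hf,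
        Category.assoc, kernel.condition_assoc, zero_comp]
    let rN : tN Z T L ⟶ tN Z T' L := Abelian.epiDesc (tP Z T L) (tP Z T' L) hk
    have hrN : tP Z T L ≫ rN = tP Z T' L := Abelian.comp_epiDesc _ _ hk
    haveI : Epi rN := by
      haveI : Epi (tP Z T L ≫ rN) := hrN ▸ inferInstance
      exact epi_of_epi (tP Z T L) rN
    have hk2 : kernel.ι rN ≫ φ = 0 := by
      refine hthin (QCohLib.isCoh_kernel _ (hψc T) (hψc T').1) _ fun ζ hζ => LinearMap.ext fun a => ?_
      rw [Functor.map_comp, ModuleCat.hom_comp, LinearMap.comp_apply, LinearMap.zero_apply]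
      by_cases hζT : ζ ∈ T
      · by_cases he : ζ = η
        · subst he
          rw [h0]
          rfl
        · obtain ⟨v, hv⟩ := exists_gen_tN hL Z T (hηZ ζ hζ)
          have hne : ((St ζ).map rN).hom ≠ 0 := fun h0' => by
            haveI := nontrivial_tN hL Z T' (hηZ ζ hζ) (show ζ ∈ T' from ⟨hζT, he⟩)
            obtain ⟨b, hb⟩ := exists_ne (0 : (St ζ).obj (tN Z T' L))
            obtain ⟨c, rfl⟩ := (ModuleCat.epi_iff_surjective ((St ζ).map rN)).mp inferInstance b
            exact hb (LinearMap.congr_fun h0' c)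
          have ha : ((St ζ).map (kernel.ι rN)).hom a = 0 := injective_of_cyclic (isField_stalk hζ) v hv _ hne (by
            rw [map_zero, ← LinearMap.comp_apply, ← ModuleCat.hom_comp, ← Functor.map_comp, kernel.condition,
              Functor.map_zero]
            rfl)
          rw [ha, map_zero]
      · haveI := subsingleton_tN hL Z T hTf hζ hζT
        rw [Subsingleton.elim (((St ζ).map (kernel.ι rN)).hom a) 0, map_zero]
    refine ⟨Abelian.epiDesc rN φ hk2, fun h => hφ ?_⟩
    rw [← Abelian.comp_epiDesc rN φ hk2, h, comp_zero]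
  have hTne : T.Nonempty := by
    by_contra hT
    refine hφ (hthin (hψc T) φ fun η hη => LinearMap.ext fun a => ?_)
    haveI := subsingleton_tN hL Z T hTf hη (fun h => hT ⟨η, h⟩)
    rw [Subsingleton.elim a 0, map_zero]
    rfl
  have hdetB := detected_tB (k := k) hL T hTf hTm
  haveI := mono_tI hL Z T
  haveI : Mono φ := by
    refine mono_of_detected φ (detected_of_mono (tI Z T L) hdetB) fun η hη => ?_
    by_cases hηT : η ∈ T
    · obtain ⟨v, hv⟩ := exists_gen_tN hL Z T (hηZ η hη)
      exact injective_of_cyclic (isField_stalk hη) v hv _ (key φ hφ η hηT)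
    · haveI := subsingleton_tN hL Z T hTf hη hηT
      exact Function.injective_of_subsingleton _
  let J := sub T
  let i := J.subschemeι
  haveI hred : IsReduced J.subscheme := DevissLib.isReduced_vanishingIdeal' _
  letI := fnModule k J
  obtain ⟨A, hA⟩ := exists_endo k hL Z T
  have hmax := exists_maxPt_sub T hTf hTm
  have hmemT : ∀ y : J.subscheme, IsMaxPt (i y) → i y ∈ T := fun y hy =>
    mem_of_mem_closure hTf hy (support_sub T ▸ J.range_subschemeι.le ⟨y, rfl⟩)
  -- locally the action is a scalar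
  have hst : ∀ (f : Γ(J.subscheme, ⊤)) (x : X) (V : X.Opens) (hxV : x ∈ V) (g : Γ(X, V)),
      i.app V g = fnRes J V f → ∀ a, ((St x).map (A f)).hom a = X.presheaf.germ V x hxV g • a := by
    intro f x V hxV g hg a
    obtain ⟨W, hxW, s, rfl⟩ := DevissLib.exists_gm_eq (tN Z T L) x a
    rw [← DevissLib.gm_map (tN Z T L) (inf_le_left : W ⊓ V ≤ W) x ⟨hxW, hxV⟩ s, DevissLib.gm_app]
    generalize (tN Z T L).presheaf.map (homOfLE (inf_le_left : W ⊓ V ≤ W)).op s = s'
    have hg' : i.app (W ⊓ V) (X.presheaf.map (homOfLE (inf_le_right : W ⊓ V ≤ V)).op g) = fnRes J (W ⊓ V) f := by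
      refine Eq.trans ?_ (congrArg (J.subscheme.presheaf.map
        (homOfLE (show i ⁻¹ᵁ (W ⊓ V) ≤ i ⁻¹ᵁ V from fun a ha => ha.2)).op) hg |>.trans ?_)
      · exact ConcreteCategory.congr_hom (i.naturality (homOfLE (inf_le_right : W ⊓ V ≤ V)).op) g
      · exact AmpleLib.res_res (Coh.structureModule J.subscheme) le_top
          (show i ⁻¹ᵁ (W ⊓ V) ≤ i ⁻¹ᵁ V from fun a ha => ha.2) f
    rw [hA f _ _ hg', DevissLib.gm_smul, TopCat.Presheaf.germ_res_apply]
  -- connectedness
  have hconn : ConnectedSpace J.subscheme := by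
    obtain ⟨η, hη⟩ := hTne
    obtain ⟨y₀, -⟩ := (J.range_subschemeι.ge (support_sub T ▸ subset_closure hη) : η ∈ Set.range i)
    refine { toNonempty := ⟨y₀⟩, isPreconnected_univ := (preconnectedSpace_iff_clopen.mpr fun s hs => ?_).isPreconnected_univ }
    by_contra hc
    push Not at hc
    obtain ⟨⟨y₁, hy₁⟩, hu⟩ := hc
    obtain ⟨y₂, hy₂⟩ := (Set.ne_univ_iff_exists_notMem s).mp hu
    obtain ⟨z₁, hz₁, hsp₁⟩ := hmax y₁
    obtain ⟨z₂, hz₂, hsp₂⟩ := hmax y₂
    have hz₁s : z₁ ∈ s := hsp₁.mem_open hs.isOpen hy₁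
    have hz₂s : z₂ ∈ sᶜ := hsp₂.mem_open hs.isClosed.isOpen_compl hy₂
    let V : Bool → J.subscheme.Opens := fun b => bif b then ⟨s, hs.isOpen⟩ else ⟨sᶜ, hs.isClosed.isOpen_compl⟩
    let sf : ∀ b, Γ(J.subscheme, V b) := fun b => bif b then 1 else 0
    obtain ⟨f, hf, -⟩ := J.subscheme.sheaf.existsUnique_gluing' V ⊤ (fun b => homOfLE le_top) (fun z _ => by
      by_cases hz : z ∈ s
      · exact Opens.mem_iSup.2 ⟨true, hz⟩
      · exact Opens.mem_iSup.2 ⟨false, hz⟩) sf (by
      intro a b
      refine TopCat.Presheaf.section_ext J.subscheme.sheaf _ _ _ fun z hz => ?_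
      cases a <;> cases b
      · rfl
      · exact absurd hz.2 hz.1
      · exact absurd hz.1 hz.2
      · rfl)
    obtain ⟨W₁, hW₁o, hW₁⟩ := i.isClosedEmbedding.isEmbedding.isInducing.isOpen_iff.mp hs.isOpen
    obtain ⟨W₂, hW₂o, hW₂⟩ := i.isClosedEmbedding.isEmbedding.isInducing.isOpen_iff.mp hs.isClosed.isOpen_compl
    have hact : ∀ (b : Bool) (W : X.Opens), i ⁻¹ᵁ W ≤ V b → ∀ (g : Γ(X, W)),
        i.app W g = (bif b then 1 else 0) → i.app W g = fnRes J W f := fun b W hW g hg => by
      rw [hg]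
      have h2 := congrArg (J.subscheme.presheaf.map (homOfLE hW).op) (hf b)
      refine Eq.trans ?_ (h2.symm.trans (AmpleLib.res_res (Coh.structureModule J.subscheme) le_top hW f))
      cases b
      · exact (map_zero _).symm
      · exact (map_one _).symm
    have e₁ := fun a => hst f (i z₁) ⟨W₁, hW₁o⟩ (show z₁ ∈ i ⁻¹' W₁ by rw [hW₁]; exact hz₁s) 1
      (hact true ⟨W₁, hW₁o⟩ (fun z (hz : z ∈ i ⁻¹' W₁) => by rw [hW₁] at hz; exact hz) 1 (map_one _)) a
    have e₂ := fun a => hst f (i z₂) ⟨W₂, hW₂o⟩ (show z₂ ∈ i ⁻¹' W₂ by rw [hW₂]; exact hz₂s) 0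
      (hact false ⟨W₂, hW₂o⟩ (fun z (hz : z ∈ i ⁻¹' W₂) => by rw [hW₂] at hz; exact hz) 0 (map_zero _)) a
    have hne : A f ≫ φ ≠ 0 := fun h0 => key φ hφ (i z₁) (hmemT z₁ hz₁) (LinearMap.ext fun a => by
      have h2 := congrArg (fun ψ : tN Z T L ⟶ ω => ((St (i z₁)).map ψ).hom a) h0
      simp only [Functor.map_comp, ModuleCat.hom_comp, LinearMap.comp_apply] at h2
      rw [e₁, map_one, one_smul] at h2
      rw [h2]
      simp)
    refine key (A f ≫ φ) hne (i z₂) (hmemT z₂ hz₂) (LinearMap.ext fun a => ?_)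
    simp only [Functor.map_comp, ModuleCat.hom_comp, LinearMap.comp_apply]
    rw [e₂, map_zero, zero_smul, map_zero]
    rfl
  -- dimension
  have hdJ : topologicalKrullDim J.subscheme = 1 := by
    refine le_antisymm ((NefH1Lib.topDim_le i).trans hdim.le) ?_
    obtain ⟨η, hη⟩ := hTne
    have h2 := dim_mono ((closure_mono (Set.singleton_subset_iff.mpr hη)).trans
      ((support_sub T).ge.trans J.range_subschemeι.ge) : closure ({η} : Set X) ⊆ Set.range i)
    rw [heq _ (closure_mem_components (hTm η hη))] at h2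
    rw [i.isClosedEmbedding.isEmbedding.toHomeomorph.isHomeomorph.topologicalKrullDim_eq]
    exact_mod_cast h2
  refine ⟨J, hred, hconn, hdJ, ?_⟩
  let Q := ClSub.quotMod J
  let N := tN Z T L
  have hQc : Coh.IsCoh Q := CurvLib.isCoh_quotMod J
  obtain ⟨EQ⟩ := hdual Q hQc.1
  obtain ⟨EN⟩ := hdual N (hψc T).1
  haveI := CurvLib.finite_HH (k := k) hQc 1
  haveI := CurvLib.finite_HH (k := k) (hψc T) 1
  haveI := CurvLib.finite_HH (k := k) hω 0
  haveI : Module.Finite k (Q ⟶ ω) := Module.Finite.equiv EQ.symm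
  haveI : Module.Finite k (N ⟶ ω) := Module.Finite.equiv EN.symm
  haveI : Module.Finite k (Coh.structureModule X ⟶ ω) := Module.Finite.equiv (homUnit (k := k) ω).symm
  -- sections of the twisted ideal
  have hA1 : Module.finrank k (Coh.HH X N 0) ≤ Module.finrank k (Coh.HH X Q 1) := by
    let post : (Coh.structureModule X ⟶ N) →ₗ[k] (Coh.structureModule X ⟶ ω) := Linear.rightComp k _ φ
    let pre : (Q ⟶ ω) →ₗ[k] (Coh.structureModule X ⟶ ω) := Linear.leftComp k _ (ClSub.toSubscheme J)
    have hpost : Function.Injective post := fun a b h => (cancel_mono φ).mp h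
    have hle : LinearMap.range post ≤ LinearMap.range pre := by
      rintro _ ⟨s, rfl⟩
      have hs : ClSub.idealModι J ≫ s = 0 := by
        refine Scheme.Modules.hom_ext _ _ fun V => ?_
        refine ConcreteCategory.hom_ext _ _ fun a => ?_
        show s.app V ((ClSub.idealModι J).app V a) = 0
        have h0 : i.app V (show Γ(X, V) from (ClSub.idealModι J).app V a) = fnRes J V 0 := by
          rw [fnRes, map_zero]
          exact congrArg (fun f : ClSub.idealMod J ⟶ ClSub.quotMod J => f.app V a) (kernel.condition (ClSub.toSubscheme J))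
        have h2 := hA 0 V _ h0 (s.app V (show Γ(Coh.structureModule X, V) from (1 : Γ(X, V))))
        rw [map_zero] at h2
        refine Eq.trans ?_ h2.symm
        rw [← QCohLib.app_smul]
        exact congrArg (s.app V) (mul_one (show Γ(X, V) from (ClSub.idealModι J).app V a)).symm
      haveI : Epi (CurvLib.idealSeq J).g := (CurvLib.idealSeq_shortExact J).epi_g
      refine ⟨(CurvLib.idealSeq_shortExact J).exact.desc s hs ≫ φ, ?_⟩
      show ClSub.toSubscheme J ≫ _ ≫ φ = s ≫ φ
      rw [← Category.assoc]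
      exact congrArg (· ≫ φ) ((CurvLib.idealSeq_shortExact J).exact.g_desc s hs)
    calc Module.finrank k (Coh.HH X N 0) = Module.finrank k (Coh.structureModule X ⟶ N) :=
          (homUnit (k := k) N).finrank_eq.symm
      _ = Module.finrank k (LinearMap.range post) := (LinearMap.finrank_range_of_inj hpost).symm
      _ ≤ Module.finrank k (LinearMap.range pre) := Submodule.finrank_mono hle
      _ ≤ Module.finrank k (Q ⟶ ω) := LinearMap.finrank_range_le pre
      _ = Module.finrank k (Coh.HH X Q 1) := EQ.finrank_eq.trans Subspace.dual_finrank_eq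
  -- functions on the subcurve
  have hA2 : Module.finrank k (Coh.HH X Q 0) ≤ Module.finrank k (Coh.HH X N 1) := by
    letI := GenusZeroLib.kmod k Q
    let eQ : Γ(Q, ⊤) ≃ₗ[k] Γ(J.subscheme, ⊤) :=
      { toFun := fun z => z
        invFun := fun z => z
        map_add' := fun _ _ => rfl
        map_smul' := fun c z => rfl }
    let Φ : Γ(J.subscheme, ⊤) →ₗ[k] (N ⟶ ω) := (Linear.rightComp k N φ).comp A
    have hΦ : Function.Injective Φ := (injective_iff_map_eq_zero Φ).2 fun f hf => by
      have hAf : A f = 0 := (cancel_mono φ).mp (hf.trans zero_comp.symm)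
      refine eq_zero_of_germs J hmax ⊤ f fun y hy hyT => ?_
      obtain ⟨U, hU, hxU, -⟩ := exists_isAffineOpen_mem_and_subset (x := i y) (U := ⊤) trivial
      obtain ⟨g, hg⟩ := CurvLib.unitToPush_app_surjective i hU (fnRes J U f)
      by_cases hg0 : X.presheaf.germ U (i y) hxU g = 0
      · obtain ⟨W, hxW, j, j', hW⟩ := TopCat.Presheaf.germ_eq X.presheaf (i y) (U := U) (V := U) hxU hxU g 0
          (hg0.trans (map_zero _).symm)
        rw [map_zero] at hW
        have h2 : fnRes J W f = 0 := by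
          refine Eq.trans ?_ ((congrArg (i.app W) hW).trans (map_zero _))
          refine Eq.trans ?_ (ConcreteCategory.congr_hom (i.naturality j.op) g).symm
          exact ((AmpleLib.res_res (Coh.structureModule J.subscheme) le_top
            (show i ⁻¹ᵁ W ≤ i ⁻¹ᵁ U from fun a ha => j.le ha) f).symm.trans
              (congrArg (J.subscheme.presheaf.map (homOfLE (show i ⁻¹ᵁ W ≤ i ⁻¹ᵁ U from fun a ha => j.le ha)).op) hg.symm))
        have h3 := congrArg (J.subscheme.presheaf.germ (i ⁻¹ᵁ W) y hxW) h2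
        rw [map_zero, fnRes, TopCat.Presheaf.germ_res_apply] at h3
        exact h3
      · exfalso
        haveI := nontrivial_tN hL Z T (hηZ (i y) hy) (hmemT y hy)
        obtain ⟨n, hn⟩ := exists_ne (0 : (St (i y)).obj (tN Z T L))
        obtain ⟨g', hg'⟩ := (isField_stalk hy).mul_inv_cancel hg0
        have h4 := hst f (i y) U hxU g hg n
        rw [hAf, Functor.map_zero] at h4
        refine hn ?_
        rw [← one_smul (X.presheaf.stalk (i y)) n, ← hg', mul_comm, mul_smul, ← h4]
        exact smul_zero _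
    calc Module.finrank k (Coh.HH X Q 0) = Module.finrank k Γ(J.subscheme, ⊤) :=
          (GenusZeroLib.e0k k Q).finrank_eq.trans eQ.finrank_eq
      _ ≤ Module.finrank k (N ⟶ ω) := LinearMap.finrank_le_finrank_of_injective hΦ
      _ = Module.finrank k (Coh.HH X N 1) := EN.finrank_eq.trans Subspace.dual_finrank_eq
  have hχ : ∀ G : X.Modules, Curv2.euler k X G =
      (Module.finrank k (Coh.HH X G 0) : ℤ) - Module.finrank k (Coh.HH X G 1) := fun G =>
    CurvLib.euler_eq_sub (hvan G)
  have hineq : Curv2.euler k X N + Curv2.euler k X Q ≤ 0 := by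
    rw [hχ, hχ]
    omega
  -- Euler characteristics
  have hadd := CurvLib.euler_add_of_isCoh (k := k)
    (HilbPolyLib.shortExact_tensor hL (DevissLib.imCokSeq_shortExact (psi0 Z T)))
    (hψc T) (HilbPolyLib.isCoh_tensor hL hQc)
    (HilbPolyLib.isCoh_tensor hL (QCohLib.isCoh_cokernel _ hIc.1 hQc))
  change Curv2.euler k X (tB T L) =
    Curv2.euler k X N + Curv2.euler k X (CohB1.tensorMod L (cokernel (psi0 Z T))) at hadd
  obtain ⟨π⟩ := nonempty_coker_iso Z J
  have hQ' : Coh.IsCoh (ClSub.quotMod (Z ⊔ J)) := CurvLib.isCoh_quotMod _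
  have hdQ' : topologicalKrullDim (CohB1.support (ClSub.quotMod (Z ⊔ J))) ≤ 0 :=
    (dim_mono ((CurvLib.support_quotMod_subset (Z ⊔ J)).trans
      (Scheme.IdealSheafData.support_antitone le_sup_left))).trans hZ
  have hCd : topologicalKrullDim (CohB1.support (cokernel (psi0 Z T))) ≤ 0 := by
    rw [DevissLib.support_iso π]
    exact hdQ'
  have hC : Curv2.euler k X (CohB1.tensorMod L (cokernel (psi0 Z T))) =
      (Module.finrank k (Coh.HH X (ClSub.quotMod (Z ⊔ J)) 0) : ℤ) := by
    refine (CurvLib.euler_congr (k := k) (KFlatLib.tensSwap (cokernel (psi0 Z T)) L)).trans ?_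
    refine (CurvLib.euler_tensor_locFree_of_dim_zero (k := k) (QCohLib.isCoh_cokernel _ hIc.1 hQc) hCd
        (CurvLib.locFree_of_isInvertible hL)).trans ?_
    rw [Nat.cast_one, one_mul,
      CurvLib.euler_congr (k := k) π, CurvLib.euler_eq_h0 (k := k) hQ' hdQ']
  letI : J.subscheme.Over (Spec (CommRingCat.of k)) := ⟨i ≫ (X ↘ Spec (CommRingCat.of k))⟩
  show Curv2.deg k J.subscheme ((Scheme.Modules.pullback i).obj L) 1 ≤
    -2 * Curv2.euler k J.subscheme (Coh.structureModule J.subscheme) + _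
  obtain ⟨eP, eO⟩ := euler_pullback k i rfl hL
  rw [Scheme.IdealSheafData.ker_subschemeι] at eP eO
  rw [Curv2.deg, eP, eO]
  change (Curv2.euler k X (tB T L) : ℤ) - (1 : ℕ) * Curv2.euler k X Q ≤ -2 * Curv2.euler k X Q + _
  push_cast
  rw [hadd, hC]
  linarith

end Subcurve

end NefH1Lib

end
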