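import Groth.Agent.NefH1Lib.Subcurve.Twist

/-!
# Functions on the subcurve act on the twisted ideal
-/

set_option autoImplicit false
set_option linter.style.haveILetI false
set_option linter.unusedSectionVars false
set_option maxHeartbeats 1000000
set_option backward.isDefEq.respectTransparency false
set_option backward.isDefEq.respectTransparency.types false

universe u

open CategoryTheory CategoryTheory.Limits AlgebraicGeometry TopologicalSpace Opposite
open DevissLib (St gm)
open AmpleLib (res GenAt GenOn)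

noncomputable section

namespace NefH1Lib

namespace Subcurve

variable {X : Scheme.{u}} (k : Type u) [Field k] [X.Over (Spec (CommRingCat.of k))]

/-- functions on the subcurve, over `k` -/
@[reducible] def fnModule (J : X.IdealSheafData) : Module k Γ(J.subscheme, ⊤) :=
  Module.compHom _ (show k →+* Γ(J.subscheme, ⊤) from Coh.toGlobal (J.subschemeι ≫ (X ↘ Spec (CommRingCat.of k))))

/-- restriction of a function on the subcurve -/
abbrev fnRes (J : X.IdealSheafData) (V : X.Opens) (f : Γ(J.subscheme, ⊤)) : Γ(J.subscheme, J.subschemeι ⁻¹ᵁ V) :=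
  J.subscheme.presheaf.map (homOfLE (le_top : J.subschemeι ⁻¹ᵁ V ≤ ⊤)).op f

/-- Scalars act on the subscheme through the structure map. -/
theorem exists_endo [IsProper (X ↘ Spec (CommRingCat.of k))] {L : X.Modules} (hL : PicF.IsInvertible L)
    (Z : X.IdealSheafData) (T : Set X) :
    letI := fnModule k (sub T)
    ∃ A : Γ((sub T).subscheme, ⊤) →ₗ[k] (tN Z T L ⟶ tN Z T L),
      ∀ (f : Γ((sub T).subscheme, ⊤)) (V : X.Opens) (g : Γ(X, V)),
        (sub T).subschemeι.app V g = fnRes (sub T) V f → ∀ z : Γ(tN Z T L, V), (A f).app V z = g • z := by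
  letI := fnModule k (sub T)
  let i := (sub T).subschemeι
  letI : (sub T).subscheme.Over (Spec (CommRingCat.of k)) := ⟨i ≫ (X ↘ Spec (CommRingCat.of k))⟩
  haveI : i.IsOver (Spec (CommRingCat.of k)) := ⟨rfl⟩
  haveI := KLin.linear_pushforward (A := k) i
  obtain ⟨e, -⟩ := exists_action k hL T
  let P := (Scheme.Modules.pullback i).obj L
  haveI := mono_tI hL Z T
  let sm : Γ((sub T).subscheme, ⊤) →ₗ[k] (P ⟶ P) :=
    { toFun := fun f => Formal.smulModΓ P f
      map_add' := fun a b => KLin.smulModΓ_add P a b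
      map_smul' := fun c f => by
        rw [RingHom.id_apply, KLin.smul_def]
        exact KLin.smulModΓ_mul P _ f }
  let B : Γ((sub T).subscheme, ⊤) →ₗ[k] (tB T L ⟶ tB T L) :=
    (Linear.homCongr k e.symm e.symm).toLinearMap.comp (((Coh.push i).mapLinearMap k).comp sm)
  have hB : ∀ (f : Γ((sub T).subscheme, ⊤)) (V : X.Opens) (g : Γ(X, V)),
      i.app V g = fnRes (sub T) V f → ∀ z : Γ(tB T L, V), (B f).app V z = g • z := by
    intro f V g hg z
    have h1 : B f = e.hom ≫ (Coh.push i).map (Formal.smulModΓ P f) ≫ e.inv := by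
      show (Linear.homCongr k e.symm e.symm) _ = _
      rw [Linear.homCongr_apply]
      simp only [Iso.symm_inv, Iso.symm_hom, Category.assoc]
      rfl
    rw [h1]
    show e.inv.app V (((Coh.push i).map (Formal.smulModΓ P f)).app V (e.hom.app V z)) = g • z
    have h2 : ((Coh.push i).map (Formal.smulModΓ P f)).app V (e.hom.app V z) = g • e.hom.app V z := by
      show (Formal.smulModΓ P f).app (i ⁻¹ᵁ V) (show Γ(P, i ⁻¹ᵁ V) from e.hom.app V z) = _
      rw [KLin.smulModΓ_app_apply]
      show fnRes (sub T) V f • (show Γ(P, i ⁻¹ᵁ V) from e.hom.app V z) = _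
      rw [← hg]
      rfl
    rw [h2, QCohLib.app_smul]
    exact congrArg (g • ·) (congrArg (fun φ : tB T L ⟶ tB T L => φ.app V z) e.hom_inv_id)
  have hsc : ∀ f, LocScalar (B f) := fun f x => by
    obtain ⟨U, hU, hxU, -⟩ := exists_isAffineOpen_mem_and_subset (x := x) (U := ⊤) trivial
    obtain ⟨g, hg⟩ := CurvLib.unitToPush_app_surjective i hU (fnRes (sub T) U f)
    refine ⟨U, hxU, g, fun V hV z => hB f V _ ?_ z⟩
    refine Eq.trans ?_ (congrArg ((sub T).subscheme.presheaf.map
      (homOfLE (show i ⁻¹ᵁ V ≤ i ⁻¹ᵁ U from fun a ha => hV ha)).op) hg |>.trans ?_)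
    · exact ConcreteCategory.congr_hom (i.naturality (homOfLE hV).op) g
    · exact AmpleLib.res_res (Coh.structureModule (sub T).subscheme) le_top
        (show i ⁻¹ᵁ V ≤ i ⁻¹ᵁ U from fun a ha => hV ha) f
  have hlift : ∀ f, (tI Z T L ≫ B f) ≫ cokernel.π (tI Z T L) = 0 := fun f => by
    rw [Category.assoc]
    exact comp_locScalar_eq_zero (hsc f) _ _ (cokernel.condition _)
  let A : Γ((sub T).subscheme, ⊤) →ₗ[k] (tN Z T L ⟶ tN Z T L) :=
    { toFun := fun f => Abelian.monoLift (tI Z T L) (tI Z T L ≫ B f) (hlift f)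
      map_add' := fun a b => (cancel_mono (tI Z T L)).mp (by
        rw [Abelian.monoLift_comp, Preadditive.add_comp, Abelian.monoLift_comp, Abelian.monoLift_comp, map_add,
          Preadditive.comp_add])
      map_smul' := fun c a => (cancel_mono (tI Z T L)).mp (by
        rw [Abelian.monoLift_comp, RingHom.id_apply, Linear.smul_comp, Abelian.monoLift_comp, map_smul,
          Linear.comp_smul]) }
  refine ⟨A, fun f V g hg z => QCohLib.app_injective_of_mono (tI Z T L) V ?_⟩
  have h3 : A f ≫ tI Z T L = tI Z T L ≫ B f := Abelian.monoLift_comp _ _ _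
  refine (congrArg (fun φ : tN Z T L ⟶ tB T L => φ.app V z) h3).trans ?_
  refine (hB f V g hg _).trans ?_
  exact (QCohLib.app_smul (tI Z T L) V g z).symm

end Subcurve

end NefH1Lib

end
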