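import Groth.Agent.CurvLib.StalkSum
import Groth.Agent.IntMultLib.Cartier
import Groth.Agent.DevissLib.Basic
import Groth.Agent.DevissLib.ClosedImm
import Groth.Agent.OrbitLib.Smooth

/-!
# Modules on a reduced curve, at the maximal points
-/

set_option autoImplicit false
set_option linter.style.haveILetI false
set_option linter.unusedSectionVars false
set_option maxHeartbeats 1000000
set_option backward.isDefEq.respectTransparency false
set_option backward.isDefEq.respectTransparency.types false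

universe u

open CategoryTheory CategoryTheory.Limits AlgebraicGeometry TopologicalSpace Opposite
open DevissLib (St gm)
open AmpleLib (res)

noncomputable section

namespace NefH1Lib

namespace Subcurve

variable {X : Scheme.{u}}

/-- A maximal point: it has no proper generization. -/
def IsMaxPt (η : X) : Prop := ∀ y : X, y ⤳ η → y = η

theorem exists_maxPt (x : X) : ∃ η : X, IsMaxPt η ∧ η ⤳ x := by
  obtain ⟨Z, hZ, hxZ⟩ : ∃ Z ∈ irreducibleComponents (X : Type u), x ∈ Z :=
    ⟨irreducibleComponent x, irreducibleComponent_mem_irreducibleComponents x, mem_irreducibleComponent⟩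
  obtain ⟨η, hη⟩ := QuasiSober.sober hZ.1 (isClosed_of_mem_irreducibleComponents Z hZ)
  refine ⟨η, fun y hy => ?_, hη.specializes hxZ⟩
  have h1 : closure ({y} : Set X) ⊆ Z := hZ.2 isIrreducible_singleton.closure
    (hη.def.symm.le.trans hy.closure_subset)
  exact (hy.antisymm (hη.specializes (h1 (subset_closure rfl)))).eq

theorem closure_mem_components {η : X} (hη : IsMaxPt η) :
    closure ({η} : Set X) ∈ irreducibleComponents (X : Type u) := by
  obtain ⟨Z, hZ, hsub⟩ := exists_preirreducible (closure ({η} : Set X))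
    isIrreducible_singleton.closure.isPreirreducible
  have hZi : IsIrreducible Z := ⟨⟨η, hsub.1 (subset_closure rfl)⟩, hZ⟩
  have hZc : Z ∈ irreducibleComponents (X : Type u) :=
    ⟨hZi, fun W hW hle => (hsub.2 W hW.isPreirreducible hle).le⟩
  obtain ⟨z, hz⟩ := QuasiSober.sober hZi (isClosed_of_mem_irreducibleComponents Z hZc)
  have hzη : z = η := hη z (hz.specializes (hsub.1 (subset_closure rfl)))
  rw [← hzη, hz.def]
  exact hZc

theorem finite_maxPts [NoetherianSpace X] : {η : X | IsMaxPt η}.Finite := by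
  refine Set.Finite.of_finite_image (f := fun η : X => closure ({η} : Set X))
    (NoetherianSpace.finite_irreducibleComponents.subset ?_) ?_
  · rintro _ ⟨η, hη, rfl⟩
    exact closure_mem_components hη
  · intro a _ b _ h
    have h' : closure ({a} : Set X) = closure {b} := h
    exact (Inseparable.eq (inseparable_iff_closure_eq.mpr h'))

theorem mem_of_mem_closure {T : Set X} (hT : T.Finite) {η : X} (hη : IsMaxPt η) (h : η ∈ closure T) : η ∈ T := by
  rw [← Set.biUnion_of_singleton T, hT.closure_biUnion] at h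
  simp only [Set.mem_iUnion] at h
  obtain ⟨a, ha, hη'⟩ := h
  exact hη a (specializes_iff_mem_closure.mpr hη') ▸ ha

/-- The reduced closed subscheme on the closures of some points. -/
abbrev sub (T : Set X) : X.IdealSheafData :=
  Scheme.IdealSheafData.vanishingIdeal ⟨closure T, isClosed_closure⟩

theorem support_sub (T : Set X) : ((sub T).support : Set X) = closure T :=
  Scheme.IdealSheafData.coe_support_vanishingIdeal _

theorem stalk_eq_zero_of_subsingleton {M : X.Modules} {x : X} (h : Subsingleton ((St x).obj M))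
    (a : (St x).obj M) : a = 0 := Subsingleton.elim _ _

theorem isField_stalk [IsReduced X] {η : X} (hη : IsMaxPt η) : IsField (X.presheaf.stalk η) :=
  OrbitLib.isField_stalk_of_max η hη

theorem eq_zero_of_stalks' {A B : X.Modules} (φ : A ⟶ B) (h : ∀ x : X, ((St x).map φ).hom = 0) : φ = 0 := by
  refine Scheme.Modules.hom_ext _ _ fun V => ?_
  refine ConcreteCategory.hom_ext _ _ fun a => ?_
  refine Eq.trans ?_ (show (0 : Γ(B, V)) = _ from rfl)
  refine TopCat.Presheaf.section_ext (⟨B.presheaf, B.isSheaf⟩ : TopCat.Sheaf AddCommGrpCat X.toTopCat) V _ _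
    fun x hx => ?_
  refine Eq.trans ?_ (map_zero (B.presheaf.germ V x hx).hom).symm
  show gm B x hx (φ.app V a) = 0
  rw [← DevissLib.gm_app φ x hx a, h x]
  rfl

/-- Sections are detected at maximal points. -/
def Detected (M : X.Modules) : Prop :=
  ∀ (V : X.Opens) (z : Γ(M, V)), (∀ η : X, IsMaxPt η → ∀ h : η ∈ V, gm M η h z = 0) → z = 0

theorem eq_zero_of_detected {A B : X.Modules} (φ : A ⟶ B) (hB : Detected B)
    (h : ∀ η : X, IsMaxPt η → ((St η).map φ).hom = 0) : φ = 0 := by
  refine Scheme.Modules.hom_ext _ _ fun V => ?_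
  refine ConcreteCategory.hom_ext _ _ fun a => ?_
  refine (hB V (φ.app V a) fun η hη hV => ?_).trans rfl
  rw [← DevissLib.gm_app φ η hV a, h η hη]
  rfl

theorem mono_of_detected {A B : X.Modules} (φ : A ⟶ B) (hA : Detected A)
    (h : ∀ η : X, IsMaxPt η → Function.Injective ((St η).map φ).hom) : Mono φ := by
  refine Preadditive.mono_of_cancel_zero φ fun {W} g hg => eq_zero_of_detected g hA fun η hη => ?_
  refine LinearMap.ext fun a => h η hη ?_
  have h1 := congrArg (fun f : W ⟶ B => ((St η).map f).hom a) hg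
  simp only [Functor.map_comp, Functor.map_zero, ModuleCat.hom_comp, LinearMap.comp_apply] at h1
  rw [LinearMap.zero_apply, map_zero]
  exact h1.trans (by simp)

theorem detected_of_mono {A B : X.Modules} (i : A ⟶ B) [Mono i] (hB : Detected B) : Detected A := fun V z hz =>
  QCohLib.app_injective_of_mono i V (Eq.trans (hB V (i.app V z) fun η hη hV => by
    rw [← DevissLib.gm_app i η hV z, hz η hη hV, map_zero]) (map_zero _).symm)

theorem detected_of_iso {A B : X.Modules} (e : A ≅ B) (hB : Detected B) : Detected A := detected_of_mono e.hom hB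

/-- The support of a finite module zero at every maximal point is zero-dimensional. -/
theorem dim_support_le_zero {M : X.Modules} (hM : CohB1.IsFT M) (hd : topologicalKrullDim X ≤ 1)
    (h : ∀ η : X, IsMaxPt η → η ∉ CohB1.support M) :
    topologicalKrullDim (CohB1.support M) ≤ 0 :=
  CurvLib.dim_le_zero_of_no_maximal hd (QCohLib.isClosed_support M hM) fun x hx => by
    obtain ⟨η, hη, hηx⟩ := exists_maxPt x
    exact ⟨η, hηx, fun he => h η hη (he ▸ hx)⟩

/-- An endomorphism which is locally multiplication by a function. -/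
def LocScalar {M : X.Modules} (μ : M ⟶ M) : Prop :=
  ∀ x : X, ∃ U : X.Opens, x ∈ U ∧ ∃ g : Γ(X, U), ∀ (V : X.Opens) (hV : V ≤ U) (z : Γ(M, V)),
    μ.app V z = X.presheaf.map (homOfLE hV).op g • z

theorem comp_locScalar_eq_zero {A M C : X.Modules} {μ : M ⟶ M} (hμ : LocScalar μ) (i : A ⟶ M) (q : M ⟶ C)
    (h : i ≫ q = 0) : i ≫ μ ≫ q = 0 := by
  refine eq_zero_of_stalks' _ fun x => LinearMap.ext fun a => ?_
  obtain ⟨U, hxU, g, hg⟩ := hμ x
  obtain ⟨W, hxW, s, rfl⟩ := DevissLib.exists_gm_eq A x a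
  rw [← DevissLib.gm_map A (inf_le_left : W ⊓ U ≤ W) x ⟨hxW, hxU⟩ s, DevissLib.gm_app]
  generalize A.presheaf.map (homOfLE (inf_le_left : W ⊓ U ≤ W)).op s = s'
  have h1 : (i ≫ μ ≫ q).app (W ⊓ U) s' = 0 := by
    show q.app (W ⊓ U) (μ.app (W ⊓ U) (i.app (W ⊓ U) s')) = 0
    rw [hg _ inf_le_right, QCohLib.app_smul]
    have h2 : q.app (W ⊓ U) (i.app (W ⊓ U) s') = 0 :=
      congrArg (fun f : A ⟶ C => f.app (W ⊓ U) s') h
    rw [h2, smul_zero]
  rw [h1]
  exact map_zero _

section Quot

variable (J : X.IdealSheafData)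

instance : Epi (ClSub.toSubscheme J) := CurvLib.epi_toSubscheme J

theorem idealModι_comp_toSubscheme {J J' : X.IdealSheafData} (h : J ≤ J') :
    ClSub.idealModι J ≫ ClSub.toSubscheme J' = 0 := by
  refine eq_zero_of_stalks' _ fun x => LinearMap.ext fun a => ?_
  obtain ⟨W, hxW, s, rfl⟩ := DevissLib.exists_gm_eq (ClSub.idealMod J) x a
  obtain ⟨U, hU, hxU, hUW⟩ := exists_isAffineOpen_mem_and_subset (x := x) (U := W) hxW
  rw [← DevissLib.gm_map (ClSub.idealMod J) (show U ≤ W from hUW) x hxU s, DevissLib.gm_app]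
  generalize (ClSub.idealMod J).presheaf.map (homOfLE (show U ≤ W from hUW)).op s = s'
  have h1 : (ClSub.toSubscheme J).app U ((ClSub.idealModι J).app U s') = 0 :=
    congrArg (fun f : ClSub.idealMod J ⟶ ClSub.quotMod J => f.app U s') (kernel.condition (ClSub.toSubscheme J))
  have h2 := (IntMultLib.toSubscheme_app_eq_zero_iff J' ⟨U, hU⟩ _).mpr
    (h ⟨U, hU⟩ ((IntMultLib.toSubscheme_app_eq_zero_iff J ⟨U, hU⟩ _).mp h1))
  exact (congrArg (gm _ x hxU) h2).trans (map_zero _)

theorem exists_quot_map {J J' : X.IdealSheafData} (h : J ≤ J') :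
    ∃ r : ClSub.quotMod J ⟶ ClSub.quotMod J', ClSub.toSubscheme J ≫ r = ClSub.toSubscheme J' ∧ Epi r := by
  haveI : Epi (CurvLib.idealSeq J).g := (CurvLib.idealSeq_shortExact J).epi_g
  have e := (CurvLib.idealSeq_shortExact J).exact.g_desc (ClSub.toSubscheme J') (idealModι_comp_toSubscheme h)
  refine ⟨_, e, ?_⟩
  haveI : Epi (ClSub.toSubscheme J ≫ (CurvLib.idealSeq_shortExact J).exact.desc (ClSub.toSubscheme J')
      (idealModι_comp_toSubscheme h)) := by
    change Epi ((CurvLib.idealSeq J).g ≫ _)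
    rw [e]
    infer_instance
  exact epi_of_epi (ClSub.toSubscheme J) _

/-- Off the support the ideal is everything. -/
theorem surjective_idealModι {x : X} (hx : x ∉ (J.support : Set X)) :
    Function.Surjective ((St x).map (ClSub.idealModι J)).hom := by
  intro a
  obtain ⟨W, hxW, s, rfl⟩ := DevissLib.exists_gm_eq (Coh.structureModule X) x a
  let V : X.Opens := W ⊓ ⟨(J.support : Set X)ᶜ, J.support.isClosed.isOpen_compl⟩
  obtain ⟨U, hU, hxU, hUV⟩ := exists_isAffineOpen_mem_and_subset (x := x) (U := V) ⟨hxW, hx⟩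
  rw [← DevissLib.gm_map (Coh.structureModule X) (show U ≤ W from fun y hy => (hUV hy).1) x hxU s]
  generalize (Coh.structureModule X).presheaf.map (homOfLE (show U ≤ W from fun y hy => (hUV hy).1)).op s = s'
  have h1 : (ClSub.toSubscheme J).app U s' = 0 := by
    haveI : IsEmpty ↑(J.subschemeι ⁻¹ᵁ U : Set J.subscheme) := ⟨fun y => (hUV y.2).2
      (J.range_subschemeι.le ⟨y.1, rfl⟩)⟩
    have hbot : J.subschemeι ⁻¹ᵁ U = ⊥ := Opens.ext (Set.eq_empty_iff_forall_notMem.mpr fun y hy =>
      isEmptyElim (⟨y, hy⟩ : ↑(J.subschemeι ⁻¹ᵁ U : Set J.subscheme)))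
    haveI : Subsingleton Γ(J.subscheme, J.subschemeι ⁻¹ᵁ U) := by
      rw [hbot]
      exact CommRingCat.subsingleton_of_isTerminal J.subscheme.sheaf.isTerminalOfEmpty
    exact Subsingleton.elim (α := Γ(J.subscheme, J.subschemeι ⁻¹ᵁ U)) _ _
  obtain ⟨σ, hσ⟩ := IntMultLib.exists_section J ⟨U, hU⟩ ((IntMultLib.toSubscheme_app_eq_zero_iff J ⟨U, hU⟩ _).mp h1)
  exact ⟨gm _ x hxU σ, (DevissLib.gm_app _ x hxU σ).trans (congrArg (gm _ x hxU) hσ)⟩

/-- On the support the quotient is nonzero. -/
theorem nontrivial_quotMod_stalk {x : X} (hx : x ∈ (J.support : Set X)) :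
    gm (ClSub.quotMod J) x (show x ∈ (⊤ : X.Opens) from trivial)
      ((ClSub.toSubscheme J).app ⊤ (1 : Γ(X, ⊤))) ≠ 0 := by
  intro h0
  obtain ⟨y, hy⟩ := (J.range_subschemeι.ge hx : x ∈ Set.range J.subschemeι)
  obtain ⟨W, hxW, i, i', hW⟩ := TopCat.Presheaf.germ_eq (ClSub.quotMod J).presheaf x (U := ⊤) (V := ⊤) trivial trivial
    ((ClSub.toSubscheme J).app ⊤ (1 : Γ(X, ⊤))) 0 (h0.trans (map_zero _).symm)
  rw [map_zero] at hW
  have h2 : (ClSub.toSubscheme J).app W (1 : Γ(X, W)) = 0 := by
    refine Eq.trans ?_ hW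
    refine Eq.trans ?_ (QCohLib.app_map (ClSub.toSubscheme J) i (1 : Γ(X, ⊤)))
    exact congrArg _ (map_one (X.presheaf.map i.op).hom).symm
  have hyW : y ∈ J.subschemeι ⁻¹ᵁ W := show J.subschemeι y ∈ W by rw [hy]; exact hxW
  have h3 : (1 : Γ(J.subscheme, J.subschemeι ⁻¹ᵁ W)) = 0 :=
    (map_one (J.subschemeι.app W).hom).symm.trans h2
  have h4 := congrArg (J.subscheme.presheaf.germ _ y hyW) h3
  rw [map_one, map_zero] at h4
  exact one_ne_zero h4

/-- Sections of the structure sheaf of a reduced subscheme through maximal points are detected there. -/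
theorem eq_zero_of_germs [IsReduced J.subscheme]
    (hT : ∀ y : J.subscheme, ∃ y' : J.subscheme, IsMaxPt (J.subschemeι y') ∧ y' ⤳ y)
    (W : J.subscheme.Opens) (r : Γ(J.subscheme, W))
    (h : ∀ (y : J.subscheme), IsMaxPt (J.subschemeι y) → ∀ hy : y ∈ W, J.subscheme.presheaf.germ W y hy r = 0) :
    r = 0 := by
  refine eq_zero_of_basicOpen_eq_bot r (eq_bot_iff.mpr fun y hy => ?_)
  obtain ⟨y', hm, hsp⟩ := hT y
  have hy' : y' ∈ J.subscheme.basicOpen r := hsp.mem_open (J.subscheme.basicOpen r).2 hy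
  have hu := (J.subscheme.mem_basicOpen r y' (J.subscheme.basicOpen_le r hy')).mp hy'
  rw [h y' hm (J.subscheme.basicOpen_le r hy')] at hu
  exact absurd hu not_isUnit_zero

end Quot

end Subcurve

end NefH1Lib

end
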