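import Groth.Agent.NefH1Lib.Subcurve.Main
import Groth.Agent.CurveDualModLib.GG
import Groth.Agent.MiscFlat6.AmpleGen
import Groth.Agent.MiscFlat6.ClosedPts
import Groth.Agent.MiscFlat6.TensorGG
import Groth.Agent.GenusZeroLib.PointIdeal
import Groth.Agent.RRVanLib.GG

/-!
# Global generation from degrees on subcurves
-/

set_option autoImplicit false
set_option linter.style.haveILetI false
set_option linter.unusedSectionVars false
set_option maxHeartbeats 1000000
set_option backward.isDefEq.respectTransparency false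
set_option backward.isDefEq.respectTransparency.types false

universe u

open CategoryTheory CategoryTheory.Limits AlgebraicGeometry TopologicalSpace Opposite
open DevissLib (St gm)
open AmpleLib (res GenAt GenOn)

noncomputable section

namespace NefH1Lib

namespace Subcurve

variable {k : Type u} [Field k] {X : Scheme.{u}} [X.Over (Spec (CommRingCat.of k))]
  [IsProper (X ↘ Spec (CommRingCat.of k))] [IsReduced X]

/-- maps from the structure sheaf vanishing at the points of a set -/
def vanAt (k : Type u) [Field k] [X.Over (Spec (CommRingCat.of k))] (M : X.Modules) (A : Set X) :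
    Submodule k (Coh.structureModule X ⟶ M) where
  carrier := {s | ∀ η ∈ A, ((St η).map s).hom = 0}
  zero_mem' := fun η _ => by rw [Functor.map_zero]; rfl
  add_mem' := fun {a b} ha hb η hη => by
    rw [Functor.map_add, ModuleCat.hom_add, ha η hη, hb η hη, add_zero]
  smul_mem' := fun c s hs η hη => by
    rw [KLin.smul_def, Functor.map_comp, ModuleCat.hom_comp, hs η hη, LinearMap.zero_comp]

/-- Generically zero homomorphisms into a dualizing module vanish. -/
theorem hom_eq_zero (hdim : topologicalKrullDim X ≤ 1) {ω : X.Modules} (hω : Coh.IsCoh ω)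
    (hdual : ∀ G : X.Modules, Coh.IsQCoh G → Nonempty ((G ⟶ ω) ≃ₗ[k] Module.Dual k (Coh.HH X G 1)))
    {A : X.Modules} (hA : Coh.IsCoh A) (φ : A ⟶ ω) (hφ : ∀ η : X, IsMaxPt η → ((St η).map φ).hom = 0) :
    φ = 0 := by
  haveI := CurvLib.isNoetherian k (X := X)
  let G := Abelian.image φ
  have hG : Coh.IsCoh G := DevissLib.isCoh_image φ hA hω
  have hd0 : topologicalKrullDim (CohB1.support G) ≤ 0 := by
    refine dim_support_le_zero hG.2 hdim fun η hη hs => ?_
    obtain ⟨a, ha⟩ := (DevissLib.mem_support_iff_nonzero G η).mp hs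
    obtain ⟨b, rfl⟩ := (ModuleCat.epi_iff_surjective ((St η).map (Abelian.factorThruImage φ))).mp inferInstance a
    refine ha ((ModuleCat.mono_iff_injective ((St η).map (Abelian.image.ι φ))).mp inferInstance ?_)
    rw [map_zero, ← LinearMap.comp_apply, ← ModuleCat.hom_comp, ← Functor.map_comp, Abelian.image.fac, hφ η hη]
    rfl
  haveI : Subsingleton (Coh.HH X G 1) :=
    CurvLib.subsingleton_HH_of_support_dim G hG.2 (d := 0) (by exact_mod_cast hd0) 1 (by omega)
  obtain ⟨E⟩ := hdual G hG.1
  haveI : Subsingleton (G ⟶ ω) := E.toEquiv.subsingleton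
  rw [← Abelian.image.fac φ, Subsingleton.elim (Abelian.image.ι φ) 0, comp_zero]

/-- The ideal of nothing. -/
theorem isIso_idealModι_top : IsIso (ClSub.idealModι (⊤ : X.IdealSheafData)) := by
  haveI : Mono (ClSub.idealModι (⊤ : X.IdealSheafData)) :=
    inferInstanceAs (Mono (kernel.ι (ClSub.toSubscheme (⊤ : X.IdealSheafData))))
  refine KFlatLib.isIso_of_stalks _ fun x => ?_
  refine (ConcreteCategory.isIso_iff_bijective _).mpr
    ⟨(ModuleCat.mono_iff_injective ((St x).map (ClSub.idealModι (⊤ : X.IdealSheafData)))).mp inferInstance,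
      surjective_idealModι (⊤ : X.IdealSheafData) (x := x) ?_⟩
  rw [Scheme.IdealSheafData.support_top]
  exact id

variable (k) in
theorem finrank_h0_quot_top :
    Module.finrank k (Coh.HH X (ClSub.quotMod (⊤ : X.IdealSheafData)) 0) = 0 := by
  haveI := CurveDualModLib.subsingleton_H0_of_isZero (M := ClSub.quotMod (⊤ : X.IdealSheafData))
    (DevissLib.isZero_of_support_empty (Set.eq_empty_of_forall_notMem fun x hx => by
      have h := CurvLib.support_quotMod_subset (⊤ : X.IdealSheafData) hx
      rw [Scheme.IdealSheafData.support_top] at h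
      exact h))
  exact Module.finrank_zero_of_subsingleton

/-- The genus of a subcurve. -/
theorem euler_subscheme (k : Type u) [Field k] [X.Over (Spec (CommRingCat.of k))]
    [IsProper (X ↘ Spec (CommRingCat.of k))] (hd : topologicalKrullDim X ≤ ((1 : ℕ) : WithBot ℕ∞))
    (J : X.IdealSheafData) :
    @Curv2.euler k _ J.subscheme ⟨J.subschemeι ≫ (X ↘ (Spec (CommRingCat.of k)))⟩ (Coh.structureModule J.subscheme) =
        (Module.finrank k (Coh.HH X (ClSub.quotMod J) 0) : ℤ) - Module.finrank k (Coh.HH X (ClSub.quotMod J) 1) ∧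
      @Curv2.genus k _ J.subscheme ⟨J.subschemeι ≫ (X ↘ (Spec (CommRingCat.of k)))⟩ =
        Module.finrank k (Coh.HH X (ClSub.quotMod J) 1) := by
  haveI := CurvLib.isNoetherian k (X := X)
  letI : J.subscheme.Over (Spec (CommRingCat.of k)) := ⟨J.subschemeι ≫ (X ↘ Spec (CommRingCat.of k))⟩
  haveI : Coh.IsQCoh (Coh.structureModule J.subscheme) := QCohLib.isQCoh_unit
  obtain ⟨hn, he⟩ := PushLinLib.euler_push k (X := J.subscheme) (Y := X) J.subschemeι rfl
    (Coh.structureModule J.subscheme)
  refine ⟨he.trans (CurvLib.euler_eq_sub fun n hn => CurvLib.subsingleton_HH_of_dim_le _ hd n (by omega)), hn 1⟩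

/-- Connected nonempty reduced subcurves have a function. -/
theorem h0_quot_pos (k : Type u) [Field k] [X.Over (Spec (CommRingCat.of k))]
    [IsProper (X ↘ Spec (CommRingCat.of k))] (J : X.IdealSheafData) [ConnectedSpace J.subscheme] :
    0 < Module.finrank k (Coh.HH X (ClSub.quotMod J) 0) := by
  haveI := CurvLib.isNoetherian k (X := X)
  haveI := CurvLib.finite_HH (k := k) (CurvLib.isCoh_quotMod J) 0
  haveI : Nonempty (⊤ : J.subscheme.Opens) := ⟨⟨Classical.arbitrary J.subscheme, trivial⟩⟩
  haveI : Nontrivial (Coh.HH X (ClSub.quotMod J) 0) :=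
    (GenusZeroLib.e0k k (ClSub.quotMod J)).toEquiv.nontrivial_congr.mpr
      (inferInstanceAs (Nontrivial Γ(J.subscheme, ⊤)))
  exact Module.finrank_pos

/-- Away from the support of the ideal the twisted ideal covers the twisted subscheme sheaf. -/
theorem epi_twist {L : X.Modules} (hL : PicF.IsInvertible L) (Z : X.IdealSheafData) (S : Set X) {x : X}
    (hZs : (Z.support : Set X) = {x}) (hx : x ∉ closure S) : Epi (tP Z S L ≫ tI Z S L) := by
  haveI : Epi (psi0 Z S) := by
    refine Preadditive.epi_of_cancel_zero _ fun {G} g hg => eq_zero_of_stalks' g fun y => LinearMap.ext fun a => ?_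
    obtain ⟨b', rfl⟩ := (ModuleCat.epi_iff_surjective ((St y).map (ClSub.toSubscheme (sub S)))).mp inferInstance a
    by_cases hyx : y = x
    · haveI : Subsingleton ((St y).obj (ClSub.quotMod (sub S))) := not_not.mp fun hs => by
        have h2 := CurvLib.support_quotMod_subset (sub S) hs
        rw [support_sub, hyx] at h2
        exact hx h2
      rw [Subsingleton.elim (((St y).map (ClSub.toSubscheme (sub S))).hom b') 0, map_zero]
      rfl
    · obtain ⟨c, rfl⟩ := surjective_idealModι Z (x := y) (by rw [hZs]; exact hyx) b'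
      have h2 := congrArg (fun f : ClSub.idealMod Z ⟶ G => ((St y).map f).hom c) hg
      simp only [psi0, Functor.map_comp, ModuleCat.hom_comp, LinearMap.comp_apply] at h2
      exact h2.trans (by simp)
  haveI : Epi ((CurvLib.tensorLeft' L).map (psi0 Z S)) := by
    have hz : IsZero (cokernel (psi0 Z S)) := isZero_cokernel_of_epi _
    have hS' := HilbPolyLib.shortExact_tensor hL (DevissLib.imCokSeq_shortExact (psi0 Z S))
    haveI : Epi ((CurvLib.tensorLeft' L).map (Abelian.image.ι (psi0 Z S))) :=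
      hS'.exact.epi_f (((CurvLib.tensorLeft' L).map_isZero hz).eq_of_tgt _ _)
    haveI := epi_tP hL Z S
    rw [← Abelian.image.fac (psi0 Z S), Functor.map_comp]
    exact epi_comp (tP Z S L) _
  show Epi ((CurvLib.tensorLeft' L).map _ ≫ (CurvLib.tensorLeft' L).map _)
  rw [← Functor.map_comp, Abelian.image.fac]
  infer_instance

/-- Euler characteristics of zero dimensional modules decrease along epimorphisms. -/
theorem euler_le_of_epi (k : Type u) [Field k] [X.Over (Spec (CommRingCat.of k))]
    [IsProper (X ↘ Spec (CommRingCat.of k))] {A B : X.Modules} (r : A ⟶ B) [Epi r] (hA : Coh.IsCoh A)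
    (hB : Coh.IsCoh B) (hd : topologicalKrullDim (CohB1.support A) ≤ 0) :
    Curv2.euler k X B ≤ Curv2.euler k X A := by
  haveI := CurvLib.isNoetherian k (X := X)
  have hK : Coh.IsCoh (kernel r) := QCohLib.isCoh_kernel r hA hB.1
  have hKd : topologicalKrullDim (CohB1.support (kernel r)) ≤ 0 :=
    (dim_mono (DevissLib.support_mono (kernel.ι r))).trans hd
  have hSr : (ShortComplex.mk (kernel.ι r) r (kernel.condition r)).ShortExact :=
    { exact := ShortComplex.exact_of_f_is_kernel _ (kernelIsKernel r)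
      mono_f := inferInstanceAs (Mono (kernel.ι r))
      epi_g := inferInstanceAs (Epi r) }
  have h := CurvLib.euler_add_of_isCoh (k := k) hSr hK hA hB
  change Curv2.euler k X A = Curv2.euler k X (kernel r) + Curv2.euler k X B at h
  rw [CurvLib.euler_eq_h0 (k := k) hK hKd] at h
  omega

set_option maxHeartbeats 3000000 in
include k in
variable (k) in
theorem globallyGenerated [ConnectedSpace X] (hdim : topologicalKrullDim X = 1) {L : X.Modules}
    (hL : PicF.IsInvertible L)
    (h : ∀ J : X.IdealSheafData, IsReduced J.subscheme → ConnectedSpace J.subscheme →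
      topologicalKrullDim J.subscheme = 1 →
      2 * (@Curv2.genus k _ J.subscheme ⟨J.subschemeι ≫ (X ↘ (Spec (CommRingCat.of k)))⟩ : ℤ) ≤
        @Curv2.deg k _ J.subscheme ⟨J.subschemeι ≫ (X ↘ (Spec (CommRingCat.of k)))⟩
          ((Scheme.Modules.pullback J.subschemeι).obj L) 1) :
    Curv2.IsGloballyGenerated L := by
  classical
  haveI := CurvLib.isNoetherian k (X := X)
  haveI : CompactSpace X := QuasiCompact.compactSpace_of_compactSpace (X ↘ Spec (CommRingCat.of k))
  haveI : QuasiSeparatedSpace X := quasiSeparatedSpace_of_quasiSeparated (X ↘ Spec (CommRingCat.of k))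
  haveI : EnoughInjectives X.Modules := IsGrothendieckAbelian.enoughInjectives.{u}
  haveI : HasExt.{u} X.Modules := hasExt_of_enoughInjectives.{u} X.Modules
  have hd1 : topologicalKrullDim X = ((1 : ℕ) : WithBot ℕ∞) := by simpa using hdim
  have heq := equidim k (X := X) hdim
  -- no special sections
  have hLO : PicF.IsInvertible (CohB1.tensorMod L (Coh.structureModule X)) :=
    AmpleThLib.shT_isInvertible hL CurvLib.isInvertible_structureModule
  let eU : CohB1.tensorMod L (Coh.structureModule X) ≅ L :=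
    KFlatLib.tensSwap (Coh.structureModule X) L ≪≫ KFlatLib.tensUnitIso L
  have hL1 : Subsingleton (Coh.HH X (CohB1.tensorMod L (Coh.structureModule X)) 1) := by
    by_contra hnt
    rw [not_subsingleton_iff_nontrivial] at hnt
    haveI := isIso_idealModι_top (X := X)
    let e : CohB1.tensorMod (ClSub.idealMod (⊤ : X.IdealSheafData)) L ≅
        CohB1.tensorMod L (Coh.structureModule X) :=
      KFlatLib.tensSwap L _ ≪≫ SerreVanLib.tensorCongr L (asIso (ClSub.idealModι (⊤ : X.IdealSheafData)))
    haveI : Nontrivial (Coh.HH X (CohB1.tensorMod (ClSub.idealMod (⊤ : X.IdealSheafData)) L) 1) :=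
      (CurvLib.hIso (k := k) e 1).toEquiv.nontrivial_congr.mpr hnt
    have hZ : topologicalKrullDim ((⊤ : X.IdealSheafData).support : Set X) ≤ 0 := by
      haveI : IsEmpty ((⊤ : X.IdealSheafData).support : Set X) :=
        ⟨fun a => (show (a : X) ∈ ((⊥ : Closeds X) : Set X) from a.2)⟩
      exact topologicalKrullDim_zero_of_discreteTopology _
    obtain ⟨J, hJr, hJc, hJd, hle⟩ := exists_subcurve k hdim hL ⊤ hZ inferInstance
    have h2 := h J hJr hJc hJd
    rw [top_sup_eq, finrank_h0_quot_top, (euler_subscheme k hd1.le J).1] at hle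
    rw [(euler_subscheme k hd1.le J).2] at h2
    haveI := hJc
    have := h0_quot_pos k J
    omega
  suffices hgg : Curv2.IsGloballyGenerated (CohB1.tensorMod L (Coh.structureModule X)) from
    MiscFlat6.isGloballyGenerated_of_iso eU hgg
  refine MiscFlat6.isGloballyGenerated_of_genSections hLO ?_
  by_contra hno
  push Not at hno
  obtain ⟨x₀, hx₀⟩ := hno
  obtain ⟨x, hxc, hsp⟩ := MiscFlat6.exists_closed_specializes x₀
  have hbase : ∀ σ : Γ(CohB1.tensorMod L (Coh.structureModule X), ⊤),
      ¬ GenAt _ σ (show x ∈ (⊤ : X.Opens) from trivial) := fun σ hσ =>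
    hx₀ σ (hsp.mem_open (TwistLib.genSet hLO σ).2 hσ)
  let Z := GenusZeroLib.ptIdeal hxc
  have hZs : (Z.support : Set X) = {x} := by
    show ((Scheme.IdealSheafData.vanishingIdeal ⟨{x}, hxc⟩).support : Set X) = _
    rw [Scheme.IdealSheafData.coe_support_vanishingIdeal]
    rfl
  have hZd : topologicalKrullDim (Z.support : Set X) ≤ 0 := by
    rw [hZs]
    exact topologicalKrullDim_zero_of_discreteTopology _
  have hηZ : ∀ η : X, IsMaxPt η → η ∉ (Z.support : Set X) := fun η hη hmem => by
    have h := dim_mono ((closure_minimal (Set.singleton_subset_iff.mpr hmem) Z.support.isClosed))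
    rw [heq _ (closure_mem_components hη)] at h
    have h' := h.trans hZd
    simp at h'
    exact absurd h' (not_le.mpr zero_lt_one)
  obtain ⟨ω, hω, hdual⟩ := exists_dual k X (CurveDualModLib.isCM_of_reduced (X := X) hd1.le) heq hd1
  have hthin : ∀ {A : X.Modules}, Coh.IsCoh A → ∀ φ : A ⟶ ω,
      (∀ η : X, IsMaxPt η → ((St η).map φ).hom = 0) → φ = 0 := fun hA φ hφ =>
    hom_eq_zero hdim.le hω hdual hA φ hφ
  have hOc := CurvLib.isCoh_of_isInvertible (CurvLib.isInvertible_structureModule (X := X))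
  have hQZ : Coh.IsCoh (ClSub.quotMod Z) := CurvLib.isCoh_quotMod Z
  have hIc : Coh.IsCoh (ClSub.idealMod Z) := QCohLib.isCoh_kernel _ hOc hQZ.1
  have hM0 : Coh.IsCoh (CohB1.tensorMod L (ClSub.idealMod Z)) := HilbPolyLib.isCoh_tensor hL hIc
  -- every section vanishes at the point
  let π := SerreVanLib.tmap L (ClSub.toSubscheme Z)
  have hsub : ∀ y : X, y ≠ x → Subsingleton ((St y).obj (CohB1.tensorMod L (ClSub.quotMod Z))) := fun y hy => by
    obtain ⟨e⟩ := stalkTens hL (ClSub.quotMod Z) y
    haveI : Subsingleton ((St y).obj (ClSub.quotMod Z)) := not_not.mp fun h => hy (by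
      have h2 := CurvLib.support_quotMod_subset Z h
      rwa [hZs] at h2)
    exact e.toEquiv.subsingleton
  have hkill : ∀ c ∈ IsLocalRing.maximalIdeal (X.presheaf.stalk x),
      ∀ b : (St x).obj (CohB1.tensorMod L (ClSub.quotMod Z)), c • b = 0 := by
    intro c hc b
    obtain ⟨e⟩ := stalkTens hL (ClSub.quotMod Z) x
    refine e.injective ?_
    rw [map_smul, map_zero]
    obtain ⟨a, ha⟩ := (ModuleCat.epi_iff_surjective ((St x).map (ClSub.toSubscheme Z))).mp inferInstance (e b)
    rw [← ha, ← map_smul]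
    obtain ⟨W, hxW, s, hs⟩ := DevissLib.exists_gm_eq (Coh.structureModule X) x (c • a)
    rw [← hs, DevissLib.gm_app]
    have hnb : x ∉ X.basicOpen (show Γ(X, W) from s) := fun hb => by
      have hu : IsUnit (X.presheaf.germ W x hxW (show Γ(X, W) from s)) :=
        (X.mem_basicOpen (show Γ(X, W) from s) x hxW).mp hb
      obtain ⟨r, hr⟩ := ((AmpleLib.one_genOn (X := X) ⊤).genAt (show x ∈ (⊤ : X.Opens) from trivial)).2 a
      dsimp only at hr
      have h1 : gm (Coh.structureModule X) x hxW s = X.presheaf.germ W x hxW (show Γ(X, W) from s) •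
          (Coh.structureModule X).presheaf.germ ⊤ x trivial (1 : Γ(X, ⊤)) := by
        rw [← AmpleLib.germ_res (Coh.structureModule X) (le_top : W ≤ ⊤) (1 : Γ(X, ⊤)) hxW, ← AmpleLib.germ_smul]
        refine congrArg _ ?_
        exact ((congrArg (fun z : Γ(X, W) => (show Γ(X, W) from s) * z)
          (map_one (X.presheaf.map (homOfLE (le_top : W ≤ ⊤)).op).hom)).trans (mul_one _)).symm
      rw [hs, ← hr, smul_smul] at h1
      have h2 := ((AmpleLib.one_genOn (X := X) ⊤).genAt (show x ∈ (⊤ : X.Opens) from trivial)).1 h1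
      rw [← h2] at hu
      exact (IsLocalRing.mem_maximalIdeal c).mp hc (isUnit_of_mul_isUnit_left hu)
    exact (congrArg (gm (ClSub.quotMod Z) x hxW) ((GenusZeroLib.ptIdeal_app_eq_zero_iff hxc _).mpr hnb)).trans
      (map_zero _)
  have hπ : ∀ σ : Γ(CohB1.tensorMod L (Coh.structureModule X), ⊤), π.app ⊤ σ = 0 := by
    intro σ
    refine TopCat.Presheaf.section_ext (⟨(CohB1.tensorMod L (ClSub.quotMod Z)).presheaf,
      (CohB1.tensorMod L (ClSub.quotMod Z)).isSheaf⟩ : TopCat.Sheaf AddCommGrpCat X.toTopCat) ⊤ _ _ fun y hy => ?_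
    refine Eq.trans ?_ (map_zero ((CohB1.tensorMod L (ClSub.quotMod Z)).presheaf.germ ⊤ y hy).hom).symm
    show gm _ y hy (π.app ⊤ σ) = 0
    by_cases hyx : y = x
    · subst hyx
      obtain ⟨U, g, hyU, hg⟩ := TwistLib.exists_genOn hLO y
      have hb := hg.genAt hyU
      obtain ⟨c, hc⟩ := hb.2 ((CohB1.tensorMod L (Coh.structureModule X)).presheaf.germ ⊤ y trivial σ)
      dsimp only at hc
      have hcm : c ∈ IsLocalRing.maximalIdeal (X.presheaf.stalk y) :=
        (IsLocalRing.mem_maximalIdeal _).2 fun hu => hbase σ (by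
          show Function.Bijective fun r : X.presheaf.stalk y =>
            r • (CohB1.tensorMod L (Coh.structureModule X)).presheaf.germ ⊤ y trivial σ
          rw [← hc]
          simp only [smul_smul]
          exact hb.comp hu.unit.mulRight.bijective)
      rw [← DevissLib.gm_app π y hy σ]
      show ((St y).map π).hom ((CohB1.tensorMod L (Coh.structureModule X)).presheaf.germ ⊤ y trivial σ) = 0
      rw [← hc, map_smul]
      exact hkill c hcm _
    · haveI := hsub y hyx
      exact stalk_eq_zero_of_subsingleton (hsub y hyx) _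
  -- dimension of the special space
  have hS := HilbPolyLib.shortExact_tensor hL (CurvLib.idealSeq_shortExact Z)
  have hg0 : ∀ z, CurvLib.hMap (k := k) ((CurvLib.idealSeq Z).map (CurvLib.tensorLeft' L)).g 0 z = 0 := by
    intro z
    apply (DegPullLib.e0 _).injective
    rw [map_zero]
    exact (RRVanLib.e0_map (k := k) _ z).trans (hπ _)
  have hdel : Function.Injective (CurvLib.hDel (k := k) hS 0) := by
    refine LinearMap.ker_eq_bot.mp ?_
    rw [← CurvLib.exact₃ hS 0]
    exact LinearMap.range_eq_bot.mpr (LinearMap.ext hg0)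
  have hQ0d : topologicalKrullDim (CohB1.support (ClSub.quotMod Z)) ≤ 0 :=
    (dim_mono (CurvLib.support_quotMod_subset Z)).trans hZd
  haveI := CurvLib.finite_HH (k := k) hQZ 0
  haveI := CurvLib.finite_HH (k := k) hM0 1
  have hd_le : Module.finrank k (Coh.HH X (ClSub.quotMod Z) 0) ≤
      Module.finrank k (Coh.HH X (CohB1.tensorMod L (ClSub.idealMod Z)) 1) := by
    have hLQ : Coh.IsCoh (CohB1.tensorMod L (ClSub.quotMod Z)) := HilbPolyLib.isCoh_tensor hL hQZ
    have hLQd : topologicalKrullDim (CohB1.support (CohB1.tensorMod L (ClSub.quotMod Z))) ≤ 0 := by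
      refine (dim_mono (t := {x}) fun y hy => ?_).trans (topologicalKrullDim_zero_of_discreteTopology _)
      by_contra hne
      exact hy (hsub y hne)
    have he : Curv2.euler k X (CohB1.tensorMod L (ClSub.quotMod Z)) = Curv2.euler k X (ClSub.quotMod Z) := by
      refine (CurvLib.euler_congr (k := k) (KFlatLib.tensSwap (ClSub.quotMod Z) L)).trans ?_
      refine (CurvLib.euler_tensor_locFree_of_dim_zero (k := k) hQZ hQ0d (CurvLib.locFree_of_isInvertible hL)).trans ?_
      rw [Nat.cast_one, one_mul]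
    rw [CurvLib.euler_eq_h0 (k := k) hQZ hQ0d, CurvLib.euler_eq_h0 (k := k) hLQ hLQd] at he
    haveI : Module.Finite k (Coh.HH X ((CurvLib.idealSeq Z).map (CurvLib.tensorLeft' L)).X₁ (0 + 1)) :=
      CurvLib.finite_HH (k := k) hM0 1
    have := LinearMap.finrank_le_finrank_of_injective hdel
    change Module.finrank k (Coh.HH X (CohB1.tensorMod L (ClSub.quotMod Z)) 0) ≤
      Module.finrank k (Coh.HH X (CohB1.tensorMod L (ClSub.idealMod Z)) 1) at this
    omega
  obtain ⟨EM⟩ := hdual _ hM0.1
  -- the points carrying special homomorphisms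
  let T : Set X := {η | IsMaxPt η ∧ ∃ φ : CohB1.tensorMod L (ClSub.idealMod Z) ⟶ ω, ((St η).map φ).hom ≠ 0}
  have hTm : ∀ η ∈ T, IsMaxPt η := fun η hη => hη.1
  have hTf : T.Finite := finite_maxPts.subset hTm
  have hψc : ∀ S : Set X, Coh.IsCoh (tN Z S L) := fun S =>
    HilbPolyLib.isCoh_tensor hL (DevissLib.isCoh_image _ hIc (CurvLib.isCoh_quotMod _))
  have hfac : ∀ S : Set X, ∀ φ : CohB1.tensorMod L (ClSub.idealMod Z) ⟶ ω,
      (∀ η : X, IsMaxPt η → η ∉ S → ((St η).map φ).hom = 0) →
      ∃ φ' : tN Z S L ⟶ ω, tP Z S L ≫ φ' = φ := by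
    intro S φ hφ
    haveI := epi_tP hL Z S
    refine ⟨Abelian.epiDesc (tP Z S L) φ ?_, Abelian.comp_epiDesc _ _ _⟩
    refine hthin (QCohLib.isCoh_kernel _ hM0 (hψc S).1) _ fun η hη => LinearMap.ext fun a => ?_
    rw [Functor.map_comp, ModuleCat.hom_comp, LinearMap.comp_apply, LinearMap.zero_apply]
    by_cases hηS : η ∈ S
    · obtain ⟨v, hv⟩ := exists_gen_src hL Z (hηZ η hη)
      have hne : ((St η).map (tP Z S L)).hom ≠ 0 := fun h0 => by
        haveI := nontrivial_tN hL Z S (hηZ η hη) hηS
        obtain ⟨b, hb⟩ := exists_ne (0 : (St η).obj (tN Z S L))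
        obtain ⟨c, rfl⟩ := (ModuleCat.epi_iff_surjective ((St η).map (tP Z S L))).mp inferInstance b
        exact hb (LinearMap.congr_fun h0 c)
      have ha : ((St η).map (kernel.ι (tP Z S L))).hom a = 0 := injective_of_cyclic (isField_stalk hη) v hv _ hne (by
        rw [map_zero, ← LinearMap.comp_apply, ← ModuleCat.hom_comp, ← Functor.map_comp, kernel.condition,
          Functor.map_zero]
        rfl)
      rw [ha, map_zero]
    · rw [hφ η hη hηS]
      rfl
  let J := sub T
  let i := J.subschemeι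
  haveI hred : IsReduced J.subscheme := DevissLib.isReduced_vanishingIdeal' _
  let N := tN Z T L
  haveI := epi_tP hL Z T
  haveI := mono_tI hL Z T
  have hdetN : Detected N := detected_of_mono (tI Z T L) (detected_tB (k := k) hL T hTf hTm)
  have hNsub : ∀ η : X, IsMaxPt η → η ∉ T → Subsingleton ((St η).obj N) := fun η hη hn =>
    subsingleton_tN hL Z T hTf hη hn
  -- the special space, on the subcurve
  let Ψ : (N ⟶ ω) →ₗ[k] (CohB1.tensorMod L (ClSub.idealMod Z) ⟶ ω) := Linear.leftComp k ω (tP Z T L)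
  have hΨ : Function.Bijective Ψ := ⟨fun a b h => (cancel_epi (tP Z T L)).mp h, fun φ => by
    refine hfac T φ fun η hη hn => ?_
    by_contra hne
    exact hn ⟨hη, φ, hne⟩⟩
  have hgood : ∀ η ∈ T, ∃ φ : N ⟶ ω, Function.Injective ((St η).map φ).hom := by
    rintro η ⟨hη, φ, hφ⟩
    obtain ⟨φ', rfl⟩ := hΨ.2 φ
    obtain ⟨v, hv⟩ := exists_gen_tN hL Z T (hηZ η hη)
    refine ⟨φ', injective_of_cyclic (isField_stalk hη) v hv _ fun h0 => hφ ?_⟩
    show ((St η).map (tP Z T L ≫ φ')).hom = 0
    rw [Functor.map_comp, ModuleCat.hom_comp, h0, LinearMap.zero_comp]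
  obtain ⟨EN⟩ := hdual N (hψc T).1
  have hh1 : Module.finrank k (Coh.HH X N 1) = Module.finrank k (Coh.HH X (CohB1.tensorMod L (ClSub.idealMod Z)) 1) := by
    haveI := CurvLib.finite_HH (k := k) (hψc T) 1
    calc Module.finrank k (Coh.HH X N 1) = Module.finrank k (N ⟶ ω) :=
          (EN.finrank_eq.trans Subspace.dual_finrank_eq).symm
      _ = Module.finrank k (CohB1.tensorMod L (ClSub.idealMod Z) ⟶ ω) := (LinearEquiv.ofBijective Ψ hΨ).finrank_eq
      _ = _ := EM.finrank_eq.trans Subspace.dual_finrank_eq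
  -- the sections
  let Q := ClSub.quotMod J
  have hQc : Coh.IsCoh Q := CurvLib.isCoh_quotMod J
  obtain ⟨EQ⟩ := hdual Q hQc.1
  haveI := CurvLib.finite_HH (k := k) hQc 1
  haveI := CurvLib.finite_HH (k := k) (hψc T) 0
  haveI := CurvLib.finite_HH (k := k) hω 0
  haveI : Module.Finite k (Q ⟶ ω) := Module.Finite.equiv EQ.symm
  haveI : Module.Finite k (Coh.structureModule X ⟶ N) := Module.Finite.equiv (homUnit (k := k) N).symm
  haveI : Module.Finite k (Coh.structureModule X ⟶ ω) := Module.Finite.equiv (homUnit (k := k) ω).symm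
  obtain ⟨A, hA⟩ := exists_endo k hL Z T
  have hkillJ : ∀ s : Coh.structureModule X ⟶ N, ClSub.idealModι J ≫ s = 0 := by
    intro s
    refine Scheme.Modules.hom_ext _ _ fun V => ?_
    refine ConcreteCategory.hom_ext _ _ fun a => ?_
    show s.app V ((ClSub.idealModι J).app V a) = 0
    letI := fnModule k J
    have h0 : i.app V (show Γ(X, V) from (ClSub.idealModι J).app V a) = fnRes J V 0 := by
      rw [fnRes, map_zero]
      exact congrArg (fun f : ClSub.idealMod J ⟶ ClSub.quotMod J => f.app V a) (kernel.condition (ClSub.toSubscheme J))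
    have h2 := hA 0 V _ h0 (s.app V (show Γ(Coh.structureModule X, V) from (1 : Γ(X, V))))
    rw [map_zero] at h2
    refine Eq.trans ?_ h2.symm
    rw [← QCohLib.app_smul]
    exact congrArg (s.app V) (mul_one (show Γ(X, V) from (ClSub.idealModι J).app V a)).symm
  let pre : (Q ⟶ ω) →ₗ[k] (Coh.structureModule X ⟶ ω) := Linear.leftComp k _ (ClSub.toSubscheme J)
  let U := LinearMap.range pre
  have hUmem : ∀ (φ : N ⟶ ω) (s : Coh.structureModule X ⟶ N), s ≫ φ ∈ U := by
    intro φ s
    haveI : Epi (CurvLib.idealSeq J).g := (CurvLib.idealSeq_shortExact J).epi_g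
    refine ⟨(CurvLib.idealSeq_shortExact J).exact.desc s (hkillJ s) ≫ φ, ?_⟩
    show ClSub.toSubscheme J ≫ _ ≫ φ = s ≫ φ
    rw [← Category.assoc]
    exact congrArg (· ≫ φ) ((CurvLib.idealSeq_shortExact J).exact.g_desc s (hkillJ s))
  have hbound : ∀ (n : ℕ) (A : Set X), (T \ A).ncard = n →
      Module.finrank k (vanAt k N A) ≤ Module.finrank k (U ⊓ vanAt k ω A : Submodule k _) := by
    intro n
    induction n using Nat.strong_induction_on with
    | _ n ih =>
    intro A hn
    by_cases hTA : T ⊆ A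
    · have h0 : ∀ s : vanAt k N A, s = 0 := fun s => Subtype.ext (eq_zero_of_detected s.1 hdetN fun η hη => by
        by_cases hηT : η ∈ T
        · exact s.2 η (hTA hηT)
        · haveI := hNsub η hη hηT
          exact LinearMap.ext fun a => Subsingleton.elim _ _)
      haveI : Subsingleton (vanAt k N A) := subsingleton_of_forall_eq 0 h0
      rw [Module.finrank_zero_of_subsingleton]
      exact Nat.zero_le _
    · obtain ⟨η, hηT, hηA⟩ := Set.not_subset.mp hTA
      obtain ⟨φ, hφ⟩ := hgood η hηT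
      let A' := A ∪ {ζ | ζ ∈ T ∧ Function.Injective ((St ζ).map φ).hom}
      have hlt : (T \ A').ncard < n := hn ▸ Set.ncard_lt_ncard
        (Set.ssubset_iff_subset_ne.mpr ⟨fun a ha => ⟨ha.1, fun h => ha.2 (Or.inl h)⟩, fun heq' => by
          have : η ∈ T \ A' := heq' ▸ ⟨hηT, hηA⟩
          exact this.2 (Or.inr ⟨hηT, hφ⟩)⟩) (hTf.subset Set.diff_subset)
      have ihA := ih _ hlt A' rfl
      let f : vanAt k N A →ₗ[k] (Coh.structureModule X ⟶ ω) := (Linear.rightComp k _ φ).comp (vanAt k N A).subtype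
      have hker : Module.finrank k (LinearMap.ker f) ≤ Module.finrank k (vanAt k N A') := by
        let g : LinearMap.ker f →ₗ[k] vanAt k N A' :=
          LinearMap.codRestrict (vanAt k N A') ((vanAt k N A).subtype.comp (LinearMap.ker f).subtype) fun s ζ hζ => by
            rcases hζ with hζA | ⟨hζT, hζi⟩
            · exact s.1.2 ζ hζA
            · refine LinearMap.ext fun a => hζi ?_
              have h0 : s.1.1 ≫ φ = 0 := s.2
              rw [LinearMap.zero_apply, map_zero]
              show ((St ζ).map φ).hom (((St ζ).map s.1.1).hom a) = 0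
              rw [← LinearMap.comp_apply, ← ModuleCat.hom_comp, ← Functor.map_comp, h0, Functor.map_zero]
              rfl
        exact LinearMap.finrank_le_finrank_of_injective (f := g) fun a b hab =>
          Subtype.ext (Subtype.ext (congrArg (fun z : vanAt k N A' => (z.1 : Coh.structureModule X ⟶ N)) hab))
      have hrange : LinearMap.range f ≤ U ⊓ vanAt k ω A := by
        rintro _ ⟨s, rfl⟩
        refine ⟨hUmem φ s.1, fun ζ hζ => ?_⟩
        show ((St ζ).map (s.1 ≫ φ)).hom = 0
        rw [Functor.map_comp, ModuleCat.hom_comp, s.2 ζ hζ, LinearMap.comp_zero]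
      have hdisj : (U ⊓ vanAt k ω A') ⊓ LinearMap.range f = ⊥ := by
        refine eq_bot_iff.mpr ?_
        rintro w ⟨⟨-, hw⟩, s, rfl⟩
        refine (Submodule.mem_bot k).mpr (hthin hOc _ fun ζ hζ => ?_)
        by_cases hζT : ζ ∈ T
        · by_cases hi : Function.Injective ((St ζ).map φ).hom
          · exact hw ζ (Or.inr ⟨hζT, hi⟩)
          · show ((St ζ).map (s.1 ≫ φ)).hom = 0
            rw [Functor.map_comp, ModuleCat.hom_comp]
            obtain ⟨v, hv⟩ := exists_gen_tN hL Z T (hηZ ζ hζ)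
            rw [show ((St ζ).map φ).hom = 0 from by_contra fun hne =>
              hi (injective_of_cyclic (isField_stalk hζ) v hv _ hne), LinearMap.zero_comp]
        · show ((St ζ).map (s.1 ≫ φ)).hom = 0
          haveI := hNsub ζ hζ hζT
          rw [Functor.map_comp, ModuleCat.hom_comp]
          exact LinearMap.ext fun a => by
            rw [LinearMap.comp_apply, Subsingleton.elim (((St ζ).map s.1).hom a) 0, map_zero]
            rfl
      have hsup : (U ⊓ vanAt k ω A') ⊔ LinearMap.range f ≤ U ⊓ vanAt k ω A :=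
        sup_le (inf_le_inf_left U fun w hw ζ hζ => hw ζ (Or.inl hζ)) hrange
      have hdim2 := Submodule.finrank_sup_add_finrank_inf_eq (U ⊓ vanAt k ω A') (LinearMap.range f)
      rw [hdisj, finrank_bot, add_zero] at hdim2
      have h3 := Submodule.finrank_mono hsup
      have h4 := LinearMap.finrank_range_add_finrank_ker f
      omega
  have hh0 : Module.finrank k (Coh.HH X N 0) ≤ Module.finrank k (Coh.HH X Q 1) := by
    have h2 : vanAt k N (∅ : Set X) = ⊤ := eq_top_iff.mpr fun s _ ζ hζ => hζ.elim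
    calc Module.finrank k (Coh.HH X N 0) = Module.finrank k (Coh.structureModule X ⟶ N) :=
          (homUnit (k := k) N).finrank_eq.symm
      _ = Module.finrank k (vanAt k N (∅ : Set X)) := by rw [h2, finrank_top]
      _ ≤ Module.finrank k (U ⊓ vanAt k ω (∅ : Set X) : Submodule k _) := hbound _ ∅ rfl
      _ ≤ Module.finrank k U := Submodule.finrank_mono inf_le_left
      _ ≤ Module.finrank k (Q ⟶ ω) := LinearMap.finrank_range_le pre
      _ = Module.finrank k (Coh.HH X Q 1) := EQ.finrank_eq.trans Subspace.dual_finrank_eq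
  -- the subcurve is connected
  have hTne : T.Nonempty := by
    by_contra hT
    have h0 : ∀ φ : CohB1.tensorMod L (ClSub.idealMod Z) ⟶ ω, φ = 0 := fun φ =>
      hthin hM0 φ fun η hη => by_contra fun hne => hT ⟨η, hη, φ, hne⟩
    haveI : Subsingleton (CohB1.tensorMod L (ClSub.idealMod Z) ⟶ ω) := subsingleton_of_forall_eq 0 h0
    have h1' : Module.finrank k (Coh.HH X (CohB1.tensorMod L (ClSub.idealMod Z)) 1) = 0 := by
      rw [← Subspace.dual_finrank_eq, ← EM.finrank_eq]
      exact Module.finrank_zero_of_subsingleton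
    have h2 : Module.finrank k (Coh.HH X (ClSub.quotMod Z) 0) = 0 := by omega
    have h3 := CurvLib.isZero_of_h0 (k := k) hQZ hQ0d h2
    obtain ⟨η', -, hη'⟩ := exists_maxPt x
    refine nontrivial_quotMod_stalk Z (x := x) (by rw [hZs]; rfl) ?_
    haveI : Subsingleton ((St x).obj (ClSub.quotMod Z)) := not_not.mp fun hs => by
      have := DevissLib.support_of_isZero h3
      exact (this ▸ hs : x ∈ (∅ : Set X))
    exact Subsingleton.elim _ _
  have hmax := exists_maxPt_sub T hTf hTm
  have hmemT : ∀ y : J.subscheme, IsMaxPt (i y) → i y ∈ T := fun y hy =>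
    mem_of_mem_closure hTf hy (support_sub T ▸ J.range_subschemeι.le ⟨y, rfl⟩)
  have hconn : ConnectedSpace J.subscheme := by
    obtain ⟨η, hη⟩ := hTne
    obtain ⟨y₀, -⟩ := (J.range_subschemeι.ge (support_sub T ▸ subset_closure hη) : η ∈ Set.range i)
    refine { toNonempty := ⟨y₀⟩, isPreconnected_univ := (preconnectedSpace_iff_clopen.mpr fun s hs => ?_).isPreconnected_univ }
    by_contra hc
    push Not at hc
    obtain ⟨hne1, hne2⟩ := hc
    obtain ⟨b, hxb, y₂, hy₂⟩ : ∃ b : Set J.subscheme, IsClopen b ∧ (∃ y₂, y₂ ∈ b ∧ ∀ y ∈ b, i y ≠ x) := by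
      by_cases hxs : ∃ y ∈ s, i y = x
      · obtain ⟨y, hys, hy⟩ := hxs
        obtain ⟨y₂, hy₂⟩ := (Set.ne_univ_iff_exists_notMem s).mp hne2
        refine ⟨sᶜ, hs.compl, y₂, hy₂, fun z hz he => hz ?_⟩
        rwa [i.isClosedEmbedding.injective (he.trans hy.symm)]
      · push Not at hxs
        obtain ⟨y₁, hy₁⟩ := hne1
        exact ⟨s, hs, y₁, hy₁, hxs⟩
    obtain ⟨hy₂b, hxnot⟩ := hy₂
    obtain ⟨z₂, hz₂, hsp₂⟩ := hmax y₂
    have hz₂b : z₂ ∈ b := hsp₂.mem_open hxb.isOpen hy₂b
    let V : Bool → J.subscheme.Opens := fun c => bif c then ⟨b, hxb.isOpen⟩ else ⟨bᶜ, hxb.isClosed.isOpen_compl⟩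
    let sf : ∀ c, Γ(J.subscheme, V c) := fun c => bif c then 1 else 0
    obtain ⟨f, hf, -⟩ := J.subscheme.sheaf.existsUnique_gluing' V ⊤ (fun c => homOfLE le_top) (fun z _ => by
      by_cases hz : z ∈ b
      · exact Opens.mem_iSup.2 ⟨true, hz⟩
      · exact Opens.mem_iSup.2 ⟨false, hz⟩) sf (by
      intro a c
      refine TopCat.Presheaf.section_ext J.subscheme.sheaf _ _ _ fun z hz => ?_
      cases a <;> cases c
      · rfl
      · exact absurd hz.2 hz.1
      · exact absurd hz.1 hz.2
      · rfl)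
    obtain ⟨W₁, hW₁o, hW₁⟩ := i.isClosedEmbedding.isEmbedding.isInducing.isOpen_iff.mp hxb.isOpen
    obtain ⟨W₂, hW₂o, hW₂⟩ := i.isClosedEmbedding.isEmbedding.isInducing.isOpen_iff.mp hxb.isClosed.isOpen_compl
    letI := fnModule k J
    have hact : ∀ (c : Bool) (W : X.Opens), i ⁻¹ᵁ W ≤ V c → ∀ (g : Γ(X, W)),
        i.app W g = (bif c then 1 else 0) → i.app W g = fnRes J W f := fun c W hW g hg => by
      rw [hg]
      have h2 := congrArg (J.subscheme.presheaf.map (homOfLE hW).op) (hf c)
      refine Eq.trans ?_ (h2.symm.trans (AmpleLib.res_res (Coh.structureModule J.subscheme) le_top hW f))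
      cases c
      · exact (map_zero _).symm
      · exact (map_one _).symm
    have hstk : ∀ (z : J.subscheme) (c : Bool) (W : X.Opens) (_ : i z ∈ W), i ⁻¹ᵁ W ≤ V c →
        ∀ a : (St (i z)).obj N, ((St (i z)).map (A f)).hom a = (bif c then a else 0) := by
      intro z c W hzW hW a
      obtain ⟨W', hzW', s', rfl⟩ := DevissLib.exists_gm_eq N (i z) a
      have hW' : i ⁻¹ᵁ (W' ⊓ W) ≤ V c := fun y hy => hW hy.2
      rw [← DevissLib.gm_map N (inf_le_left : W' ⊓ W ≤ W') (i z) ⟨hzW', hzW⟩ s', DevissLib.gm_app]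
      generalize N.presheaf.map (homOfLE (inf_le_left : W' ⊓ W ≤ W')).op s' = t
      cases c
      · rw [hA f _ _ (hact false _ hW' 0 (map_zero _)) t, zero_smul]
        exact map_zero _
      · rw [hA f _ _ (hact true _ hW' 1 (map_one _)) t, one_smul]
        rfl
    have hin : i z₂ ∈ W₁ := by
      show z₂ ∈ i ⁻¹' W₁
      rw [hW₁]; exact hz₂b
    obtain ⟨φ, hφ⟩ := hgood (i z₂) (hmemT z₂ hz₂)
    let TB : Set X := {ζ | ζ ∈ T ∧ ∃ z ∈ b, i z = ζ}
    have hTB : ∀ ζ ∈ TB, IsMaxPt ζ := fun ζ hζ => hTm ζ hζ.1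
    -- the restriction of `φ` to this part
    obtain ⟨φ', hφ'⟩ := hfac TB (tP Z T L ≫ A f ≫ φ) fun ζ hζ hn => by
      refine LinearMap.ext fun a => ?_
      simp only [Functor.map_comp, ModuleCat.hom_comp, LinearMap.comp_apply, LinearMap.zero_apply]
      by_cases hζT : ζ ∈ T
      · obtain ⟨z, rfl⟩ := (J.range_subschemeι.ge (support_sub T ▸ subset_closure hζT) : ζ ∈ Set.range i)
        have hzb : z ∉ b := fun hzb => hn ⟨hζT, z, hzb, rfl⟩
        rw [hstk z false ⟨W₂, hW₂o⟩ (show z ∈ i ⁻¹' W₂ by rw [hW₂]; exact hzb)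
          (fun y (hy : y ∈ i ⁻¹' W₂) => by rw [hW₂] at hy; exact hy)]
        exact map_zero _
      · haveI := hNsub ζ hζ hζT
        rw [Subsingleton.elim (((St ζ).map (A f)).hom (((St ζ).map (tP Z T L)).hom a)) 0, map_zero]
    -- away from the point the twisted ideal is the twisted structure sheaf
    have hepi : Epi (tP Z TB L ≫ tI Z TB L) := epi_twist hL Z TB hZs fun hxB => by
      have h3 : closure TB ⊆ i '' b := closure_minimal (fun ζ ⟨_, z, hz, hzζ⟩ => ⟨z, hz, hzζ⟩)
        (i.isClosedEmbedding.isClosedMap _ hxb.isClosed)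
      obtain ⟨z, hz, hzx⟩ := h3 hxB
      exact hxnot z hz hzx
    haveI := mono_tI hL Z TB
    haveI := hepi
    haveI : Epi (tI Z TB L) := epi_of_epi (tP Z TB L) (tI Z TB L)
    haveI : IsIso (tI Z TB L) := isIso_of_mono_of_epi _
    obtain ⟨EO⟩ := hdual _ (HilbPolyLib.isCoh_tensor hL hOc).1
    haveI : Subsingleton (CohB1.tensorMod L (Coh.structureModule X) ⟶ ω) := by
      haveI : Subsingleton (Module.Dual k (Coh.HH X (CohB1.tensorMod L (Coh.structureModule X)) 1)) :=
        ⟨fun a b => LinearMap.ext fun z => by rw [Subsingleton.elim z 0, map_zero, map_zero]⟩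
      exact EO.toEquiv.subsingleton
    haveI : Epi (SerreVanLib.tmap L (ClSub.toSubscheme (sub TB))) :=
      (HilbPolyLib.shortExact_tensor hL (CurvLib.idealSeq_shortExact (sub TB))).epi_g
    have hz : inv (tI Z TB L) ≫ φ' = 0 := (cancel_epi (SerreVanLib.tmap L (ClSub.toSubscheme (sub TB)))).mp
      (Subsingleton.elim _ _)
    have hφ'0 : φ' = 0 := by
      rw [← IsIso.hom_inv_id_assoc (tI Z TB L) φ', hz, comp_zero]
    rw [hφ'0, comp_zero] at hφ'
    have h4 : A f ≫ φ = 0 := (cancel_epi (tP Z T L)).mp (hφ'.symm.trans comp_zero.symm)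
    haveI := nontrivial_tN hL Z T (hηZ _ hz₂) (hmemT z₂ hz₂)
    obtain ⟨n, hn⟩ := exists_ne (0 : (St (i z₂)).obj N)
    refine hn (hφ ?_)
    rw [map_zero]
    have h5 := congrArg (fun ψ : N ⟶ ω => ((St (i z₂)).map ψ).hom n) h4
    simp only [Functor.map_comp, ModuleCat.hom_comp, LinearMap.comp_apply] at h5
    rw [hstk z₂ true ⟨W₁, hW₁o⟩ hin (fun y (hy : y ∈ i ⁻¹' W₁) => by rw [hW₁] at hy; exact hy)] at h5
    exact h5.trans (by simp)
  have hdJ : topologicalKrullDim J.subscheme = 1 := by
    refine le_antisymm ((NefH1Lib.topDim_le i).trans hdim.le) ?_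
    obtain ⟨η, hη⟩ := hTne
    have h2 := dim_mono ((closure_mono (Set.singleton_subset_iff.mpr hη)).trans
      ((support_sub T).ge.trans J.range_subschemeι.ge) : closure ({η} : Set X) ⊆ Set.range i)
    rw [heq _ (closure_mem_components (hTm η hη))] at h2
    rw [i.isClosedEmbedding.isEmbedding.toHomeomorph.isHomeomorph.topologicalKrullDim_eq]
    exact_mod_cast h2
  have hfinal := h J hred hconn hdJ
  -- Euler characteristics
  have hadd := CurvLib.euler_add_of_isCoh (k := k)
    (HilbPolyLib.shortExact_tensor hL (DevissLib.imCokSeq_shortExact (psi0 Z T)))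
    (hψc T) (HilbPolyLib.isCoh_tensor hL hQc)
    (HilbPolyLib.isCoh_tensor hL (QCohLib.isCoh_cokernel _ hIc.1 hQc))
  change Curv2.euler k X (tB T L) =
    Curv2.euler k X N + Curv2.euler k X (CohB1.tensorMod L (cokernel (psi0 Z T))) at hadd
  obtain ⟨π'⟩ := nonempty_coker_iso Z J
  obtain ⟨r, hr, hre⟩ := exists_quot_map (show Z ≤ Z ⊔ J from le_sup_left)
  haveI := hre
  have hQ' : Coh.IsCoh (ClSub.quotMod (Z ⊔ J)) := CurvLib.isCoh_quotMod _
  have hdQ' : topologicalKrullDim (CohB1.support (ClSub.quotMod (Z ⊔ J))) ≤ 0 :=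
    (dim_mono (DevissLib.support_epi r)).trans hQ0d
  have hle' : Curv2.euler k X (ClSub.quotMod (Z ⊔ J)) ≤ Curv2.euler k X (ClSub.quotMod Z) :=
    euler_le_of_epi k r hQZ hQ' hQ0d
  have hCd : topologicalKrullDim (CohB1.support (cokernel (psi0 Z T))) ≤ 0 := by
    rw [DevissLib.support_iso π']
    exact hdQ'
  have hC : Curv2.euler k X (CohB1.tensorMod L (cokernel (psi0 Z T))) =
      Curv2.euler k X (ClSub.quotMod (Z ⊔ J)) := by
    refine (CurvLib.euler_congr (k := k) (KFlatLib.tensSwap (cokernel (psi0 Z T)) L)).trans ?_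
    refine (CurvLib.euler_tensor_locFree_of_dim_zero (k := k) (QCohLib.isCoh_cokernel _ hIc.1 hQc) hCd
        (CurvLib.locFree_of_isInvertible hL)).trans ?_
    rw [Nat.cast_one, one_mul, CurvLib.euler_congr (k := k) π']
  rw [CurvLib.euler_eq_h0 (k := k) hQZ hQ0d] at hle'
  letI : J.subscheme.Over (Spec (CommRingCat.of k)) := ⟨i ≫ (X ↘ Spec (CommRingCat.of k))⟩
  change 2 * (Curv2.genus k J.subscheme : ℤ) ≤ Curv2.deg k J.subscheme ((Scheme.Modules.pullback i).obj L) 1 at hfinal
  obtain ⟨eP, eO⟩ := euler_pullback k i rfl hL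
  rw [Scheme.IdealSheafData.ker_subschemeι] at eP eO
  have hg : Curv2.genus k J.subscheme = Module.finrank k (Coh.HH X Q 1) := (euler_subscheme k hd1.le J).2
  rw [Curv2.deg, eP, eO, hg] at hfinal
  change _ ≤ (Curv2.euler k X (tB T L) : ℤ) - (1 : ℕ) * Curv2.euler k X Q at hfinal
  have hχQ : Curv2.euler k X Q =
      (Module.finrank k (Coh.HH X Q 0) : ℤ) - Module.finrank k (Coh.HH X Q 1) :=
    CurvLib.euler_eq_sub fun n hn => CurvLib.subsingleton_HH_of_dim_le _ hd1.le n (by omega)
  have hχN : Curv2.euler k X N =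
      (Module.finrank k (Coh.HH X N 0) : ℤ) - Module.finrank k (Coh.HH X N 1) :=
    CurvLib.euler_eq_sub fun n hn => CurvLib.subsingleton_HH_of_dim_le _ hd1.le n (by omega)
  haveI := hconn
  have hpos := h0_quot_pos k J
  rw [hadd, hC, hχN, hh1] at hfinal
  push_cast at hfinal
  change 0 < Module.finrank k (Coh.HH X Q 0) at hpos
  omega

end Subcurve

end NefH1Lib

end
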