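import Groth.Agent.NefH1Lib.Subcurve.Basic
import Groth.Agent.NefH1Lib.Field
import Groth.Agent.HilbPolyLib.Twist

/-!
# The twisted ideal of a point set inside a reduced subcurve
-/

set_option autoImplicit false
set_option linter.style.haveILetI false
set_option linter.unusedSectionVars false
set_option maxHeartbeats 1000000
set_option backward.isDefEq.respectTransparency false
set_option backward.isDefEq.respectTransparency.types false

universe u

open CategoryTheory CategoryTheory.Limits AlgebraicGeometry TopologicalSpace Opposite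
open DevissLib (St gm)
open AmpleLib (res GenAt GenOn)

noncomputable section

namespace NefH1Lib

namespace Subcurve

variable {X : Scheme.{u}}

/-- A linear map out of a line is zero or injective. -/
theorem injective_of_cyclic {K A B : Type*} [CommRing K] (hK : IsField K) [AddCommGroup A] [Module K A]
    [AddCommGroup B] [Module K B] (v : A) (hv : ∀ a, ∃ r : K, r • v = a) (l : A →ₗ[K] B) (hl : l ≠ 0) :
    Function.Injective l := by
  refine (injective_iff_map_eq_zero l).2 fun a ha => ?_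
  obtain ⟨r, rfl⟩ := hv a
  by_cases hr : r = 0
  · rw [hr, zero_smul]
  obtain ⟨r', hr'⟩ := hK.mul_inv_cancel hr
  refine absurd (LinearMap.ext fun m => ?_) hl
  obtain ⟨s, rfl⟩ := hv m
  rw [map_smul] at ha
  have h0 : l v = 0 := by
    rw [← one_smul K (l v), ← hr', mul_comm, mul_smul, ha, smul_zero]
  rw [map_smul, h0, smul_zero]
  rfl

/-- Stalks do not see an invertible twist. -/
theorem stalkTens {L : X.Modules} (hL : PicF.IsInvertible L) (F : X.Modules) (x : X) :
    Nonempty ((St x).obj (CohB1.tensorMod L F) ≃ₗ[X.presheaf.stalk x] (St x).obj F) := by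
  obtain ⟨e⟩ := CurvLib.nonempty_stalk_tensor_locFree (CurvLib.locFree_of_isInvertible hL) F x
  exact ⟨((St x).mapIso (KFlatLib.tensSwap F L)).toLinearEquiv ≪≫ₗ e ≪≫ₗ
    LinearEquiv.funUnique (Fin 1) (X.presheaf.stalk x) ((St x).obj F)⟩

variable {L : X.Modules} (hL : PicF.IsInvertible L) (Z : X.IdealSheafData) (T : Set X)

/-- `I_Z → O_Y` -/
abbrev psi0 : ClSub.idealMod Z ⟶ ClSub.quotMod (sub T) := ClSub.idealModι Z ≫ ClSub.toSubscheme (sub T)

/-- the ideal of `Z ∩ Y` in `O_Y` -/
abbrev N0 : X.Modules := Abelian.image (psi0 Z T)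

/-- the twisted ideal of `Z ∩ Y` in `O_Y` -/
abbrev tN (L : X.Modules) : X.Modules := CohB1.tensorMod L (N0 Z T)

/-- the twisted `O_Y` -/
abbrev tB (L : X.Modules) : X.Modules := CohB1.tensorMod L (ClSub.quotMod (sub T))

abbrev tP (L : X.Modules) : CohB1.tensorMod L (ClSub.idealMod Z) ⟶ tN Z T L :=
  SerreVanLib.tmap L (Abelian.factorThruImage (psi0 Z T))

abbrev tI (L : X.Modules) : tN Z T L ⟶ tB T L :=
  SerreVanLib.tmap L (Abelian.image.ι (psi0 Z T))

include hL in
theorem epi_tP : Epi (tP Z T L) :=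
  (HilbPolyLib.shortExact_tensor hL (DevissLib.kerImSeq_shortExact (psi0 Z T))).epi_g

include hL in
theorem mono_tI : Mono (tI Z T L) :=
  (HilbPolyLib.shortExact_tensor hL (DevissLib.imCokSeq_shortExact (psi0 Z T))).mono_f

section Max

variable [IsReduced X] (hT : T.Finite) {η : X} (hη : IsMaxPt η) (hηZ : η ∉ (Z.support : Set X))

include hηZ in
theorem exists_gen_ideal : ∃ v : (St η).obj (ClSub.idealMod Z), (∀ a, ∃ r : X.presheaf.stalk η, r • v = a) ∧
    ((St η).map (ClSub.idealModι Z)).hom v = gm (Coh.structureModule X) η (show η ∈ (⊤ : X.Opens) from trivial) (1 : Γ(X, ⊤)) := by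
  haveI : Mono (ClSub.idealModι Z) := inferInstanceAs (Mono (kernel.ι (ClSub.toSubscheme Z)))
  have hinj : Function.Injective ((St η).map (ClSub.idealModι Z)).hom := (ModuleCat.mono_iff_injective _).mp inferInstance
  obtain ⟨v, hv⟩ := surjective_idealModι Z hηZ
    (gm (Coh.structureModule X) η (show η ∈ (⊤ : X.Opens) from trivial) (1 : Γ(X, ⊤)))
  refine ⟨v, fun a => ?_, hv⟩
  obtain ⟨r, hr⟩ := ((AmpleLib.one_genOn (X := X) ⊤).genAt (show η ∈ (⊤ : X.Opens) from trivial)).2
    (((St η).map (ClSub.idealModι Z)).hom a)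
  exact ⟨r, hinj (by rw [map_smul, hv]; exact hr)⟩

include hL hT hη in
theorem subsingleton_tB (hηT : η ∉ T) : Subsingleton ((St η).obj (tB T L)) := by
  obtain ⟨e⟩ := stalkTens hL (ClSub.quotMod (sub T)) η
  have h : η ∉ CohB1.support (ClSub.quotMod (sub T)) := fun h => by
    have h2 := CurvLib.support_quotMod_subset (sub T) h
    rw [support_sub] at h2
    exact hηT (mem_of_mem_closure hT hη h2)
  haveI : Subsingleton ((St η).obj (ClSub.quotMod (sub T))) := not_not.mp h
  exact e.toEquiv.subsingleton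

include hL hT hη in
theorem subsingleton_tN (hηT : η ∉ T) : Subsingleton ((St η).obj (tN Z T L)) := by
  haveI := mono_tI hL Z T
  haveI := subsingleton_tB hL T hT hη hηT
  exact ((ModuleCat.mono_iff_injective ((St η).map (tI Z T L))).mp inferInstance).subsingleton

include hL hηZ in
theorem exists_gen_src : ∃ v : (St η).obj (CohB1.tensorMod L (ClSub.idealMod Z)),
    ∀ a, ∃ r : X.presheaf.stalk η, r • v = a := by
  obtain ⟨v, hv, -⟩ := exists_gen_ideal Z hηZ
  obtain ⟨e⟩ := stalkTens hL (ClSub.idealMod Z) η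
  refine ⟨e.symm v, fun a => ?_⟩
  obtain ⟨r, hr⟩ := hv (e a)
  exact ⟨r, e.injective (by rw [map_smul, e.apply_symm_apply, hr])⟩

include hL hηZ in
theorem exists_gen_tN : ∃ v : (St η).obj (tN Z T L), ∀ a, ∃ r : X.presheaf.stalk η, r • v = a := by
  haveI := epi_tP hL Z T
  obtain ⟨v, hv⟩ := exists_gen_src hL Z hηZ
  refine ⟨((St η).map (tP Z T L)).hom v, fun a => ?_⟩
  obtain ⟨b, rfl⟩ := (ModuleCat.epi_iff_surjective ((St η).map (tP Z T L))).mp inferInstance a
  obtain ⟨r, rfl⟩ := hv b
  exact ⟨r, (map_smul _ r v).symm⟩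

include hL hηZ in
theorem nontrivial_tN (hηT : η ∈ T) : Nontrivial ((St η).obj (tN Z T L)) := by
  obtain ⟨e⟩ := stalkTens hL (N0 Z T) η
  obtain ⟨v, -, hv⟩ := exists_gen_ideal Z hηZ
  haveI : Nontrivial ((St η).obj (N0 Z T)) := by
    refine ⟨((St η).map (Abelian.factorThruImage (psi0 Z T))).hom v, 0, fun h0 => ?_⟩
    have h1 := congrArg ((St η).map (Abelian.image.ι (psi0 Z T))).hom h0
    rw [map_zero, ← LinearMap.comp_apply, ← ModuleCat.hom_comp, ← Functor.map_comp, Abelian.image.fac,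
      Functor.map_comp, ModuleCat.hom_comp, LinearMap.comp_apply, hv, DevissLib.gm_app] at h1
    exact nontrivial_quotMod_stalk (sub T) (support_sub T ▸ subset_closure hηT) h1
  exact e.toEquiv.nontrivial

end Max

section Curve

variable {k : Type u} [Field k] [X.Over (Spec (CommRingCat.of k))] [IsProper (X ↘ Spec (CommRingCat.of k))]
  [IsReduced X]

omit [IsReduced X] in
/-- The twisted `O_Y` as a pushforward, with the action of functions on `Y`. -/
theorem exists_action (k : Type u) [Field k] [X.Over (Spec (CommRingCat.of k))] [IsProper (X ↘ Spec (CommRingCat.of k))]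
    {L : X.Modules} (hL : PicF.IsInvertible L) (T : Set X) :
    ∃ e : tB T L ≅ (Coh.push (sub T).subschemeι).obj ((Scheme.Modules.pullback (sub T).subschemeι).obj L), True := by
  haveI := CurvLib.isNoetherian k (X := X)
  let i := (sub T).subschemeι
  haveI : IsLocallyNoetherian (sub T).subscheme := LocallyOfFiniteType.isLocallyNoetherian i
  have hLf : FlatMod.IsFinLocFree L := CurveVBLib.isFinLocFree_of_rank (CurvLib.locFree_of_isInvertible hL)
  haveI : Coh.IsQCoh (Coh.structureModule (sub T).subscheme) := QCohLib.isQCoh_unit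
  let pr := @asIso _ _ _ _ (ProjFormLib.projApp i L (Coh.structureModule (sub T).subscheme))
    (ProjFormLib.isIso_projApp i hLf (Coh.structureModule (sub T).subscheme))
  let e2 : CohB1.tensorMod ((Scheme.Modules.pullback i).obj L) (Coh.structureModule (sub T).subscheme) ≅
      (Scheme.Modules.pullback i).obj L :=
    KFlatLib.tensSwap (Coh.structureModule (sub T).subscheme) _ ≪≫ KFlatLib.tensUnitIso _
  exact ⟨pr ≪≫ (Coh.push i).mapIso e2, trivial⟩

/-- Every point of the reduced subscheme on maximal points is a specialization of one of them. -/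
theorem exists_maxPt_sub (hT : T.Finite) (hTm : ∀ η ∈ T, IsMaxPt η) (y : (sub T).subscheme) :
    ∃ y' : (sub T).subscheme, IsMaxPt ((sub T).subschemeι y') ∧ y' ⤳ y := by
  have hy : (sub T).subschemeι y ∈ closure T := support_sub T ▸ (sub T).range_subschemeι.le ⟨y, rfl⟩
  have hcl : closure T = ⋃ t ∈ T, closure ({t} : Set X) := by
    conv_lhs => rw [← Set.biUnion_of_singleton T]
    exact hT.closure_biUnion (fun a : X => ({a} : Set X))
  replace hy := hcl.le hy
  simp only [Set.mem_iUnion] at hy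
  obtain ⟨t, ht, hty⟩ := hy
  obtain ⟨y', hy'⟩ := ((sub T).range_subschemeι.ge (support_sub T ▸ subset_closure ht) :
    t ∈ Set.range (sub T).subschemeι)
  refine ⟨y', hy' ▸ hTm t ht, ?_⟩
  refine ((sub T).subschemeι.isClosedEmbedding.isEmbedding.isInducing.specializes_iff).mp ?_
  rw [hy']
  exact specializes_iff_mem_closure.mpr hty

include k hL in
variable (k) in
theorem detected_tB (hT : T.Finite) (hTm : ∀ η ∈ T, IsMaxPt η) : Detected (tB T L) := by
  obtain ⟨e, -⟩ := exists_action k hL T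
  refine detected_of_iso e ?_
  haveI : IsReduced (sub T).subscheme := DevissLib.isReduced_vanishingIdeal' _
  let i := (sub T).subschemeι
  let P := (Scheme.Modules.pullback i).obj L
  have hP : PicF.IsInvertible P := AmpleDevLib.isInvertible_pb i hL
  intro V z hz
  show (show Γ(P, i ⁻¹ᵁ V) from z) = 0
  refine TwistLib.mod_ext P fun y hy => ?_
  obtain ⟨U, g, hyU, hg⟩ := TwistLib.exists_genOn hP y
  obtain ⟨r, hr⟩ := (hg (U ⊓ i ⁻¹ᵁ V) inf_le_left).2 (res P inf_le_right (show Γ(P, i ⁻¹ᵁ V) from z))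
  dsimp only at hr
  have hr0 : r = 0 := by
    refine eq_zero_of_germs (sub T) (exists_maxPt_sub T hT hTm) _ r fun y' hm hy' => ?_
    have h1 : gm (((Coh.push i).obj P)) (i y') (show i y' ∈ V from hy'.2) z = 0 := hz _ hm hy'.2
    obtain ⟨W, hW, j, j', hWz⟩ := TopCat.Presheaf.germ_eq ((Coh.push i).obj P).presheaf (i y')
      (U := V) (V := V) hy'.2 hy'.2 z 0 (h1.trans (map_zero _).symm)
    rw [map_zero] at hWz
    have h2 : res P (show i ⁻¹ᵁ W ≤ i ⁻¹ᵁ V from fun a ha => j.le ha) (show Γ(P, i ⁻¹ᵁ V) from z) = 0 := hWz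
    have h3 : P.presheaf.germ (i ⁻¹ᵁ V) y' hy'.2 (show Γ(P, i ⁻¹ᵁ V) from z) = 0 := by
      rw [← AmpleLib.germ_res P (show i ⁻¹ᵁ W ≤ i ⁻¹ᵁ V from fun a ha => j.le ha) _ (show y' ∈ i ⁻¹ᵁ W from hW), h2,
        map_zero]
    have h4 := congrArg (P.presheaf.germ (U ⊓ i ⁻¹ᵁ V) y' hy') hr
    rw [AmpleLib.germ_smul, AmpleLib.germ_res, AmpleLib.germ_res, h3] at h4
    exact (hg.genAt hy'.1).1 (h4.trans (zero_smul _ _).symm)
  rw [hr0, zero_smul] at hr
  refine Eq.trans ?_ (map_zero (P.presheaf.germ (i ⁻¹ᵁ V) y hy).hom).symm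
  rw [← AmpleLib.germ_res P (inf_le_right : U ⊓ i ⁻¹ᵁ V ≤ i ⁻¹ᵁ V) _ (show y ∈ U ⊓ i ⁻¹ᵁ V from ⟨hyU, hy⟩), ← hr,
    map_zero]

end Curve

end Subcurve

end NefH1Lib

end
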